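/-
Class sizes `1, m, m n` with coprime `m, n`: elementary facts.
-/
import Mathlib
import Cfsg.Agent.Lib.ClassSizes.TwoSizesNormal.Shift

set_option autoImplicit false
set_option linter.all false

namespace CfsgLib.ClassSizes.CoprimeRank

open Subgroup CfsgLib.ClassSizes.TwoSizes

variable {G : Type*} [Group G]

/-- Abbreviation for a centralizer. -/
abbrev Cz (z : G) : Subgroup G := centralizer ({z} : Set G)

theorem mem_Cz {a z : G} : a ∈ Cz z ↔ Commute a z := mem_centralizer_singleton_iff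

theorem self_mem_Cz (z : G) : z ∈ Cz z := mem_Cz.2 (Commute.refl z)

theorem center_le_Cz (z : G) : center G ≤ Cz z := fun a ha =>
  mem_Cz.2 (Subgroup.mem_center_iff.1 ha z).symm

theorem Cz_eq_top {z : G} (hz : z ∈ center G) : Cz z = ⊤ :=
  eq_top_iff.2 fun a _ => mem_Cz.2 (Subgroup.mem_center_iff.1 hz a)

theorem Cz_mul_of_center {z c : G} (hc : c ∈ center G) : Cz (z * c) = Cz z := by
  ext a
  rw [mem_Cz, mem_Cz]
  have hac : Commute a c := Subgroup.mem_center_iff.1 hc a
  refine ⟨fun h => ?_, fun h => h.mul_right hac⟩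
  have := h.mul_right hac.inv_right
  rwa [mul_inv_cancel_right] at this

theorem mem_zpowers_mul [Finite G] {a b : G} (hab : Commute a b)
    (hco : (orderOf b).Coprime (orderOf a)) : a ∈ zpowers (a * b) := by
  obtain ⟨i, hi⟩ := exists_pow_eq_self_of_coprime hco
  have e : a = (a * b) ^ (orderOf b * i) := by
    rw [pow_mul, hab.mul_pow, pow_orderOf_eq_one, mul_one, hi]
  have := Subgroup.npow_mem_zpowers (a * b) (orderOf b * i)
  rwa [← e] at this

theorem Cz_inf [Finite G] {a b : G} (hab : Commute a b) (hco : (orderOf a).Coprime (orderOf b)) :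
    Cz (a * b) = Cz a ⊓ Cz b := by
  refine le_antisymm (le_inf (centralizer_le_of_mem (mem_zpowers_mul hab hco.symm)) ?_)
    fun g hg => mem_Cz.2 ((mem_Cz.1 hg.1).mul_right (mem_Cz.1 hg.2))
  rw [hab.eq]
  exact centralizer_le_of_mem (mem_zpowers_mul hab.symm hco)

theorem mul_notMem_center [Finite G] {a b : G} (hab : Commute a b)
    (hco : (orderOf a).Coprime (orderOf b)) (ha : a ∉ center G) : a * b ∉ center G :=
  fun h => ha ((zpowers_le.2 h) (mem_zpowers_mul hab hco.symm))

theorem coprime_pow_pow {q r i j : ℕ} (hq : q.Prime) (hr : r.Prime) (h : q ≠ r) {a b : G}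
    (ha : orderOf a = q ^ i) (hb : orderOf b = r ^ j) : (orderOf a).Coprime (orderOf b) := by
  rw [ha, hb]; exact ((Nat.coprime_primes hq hr).2 h).pow i j

theorem exists_primary [Finite G] {x : G} (hx : x ∉ center G) :
    ∃ w ∈ zpowers x, w ∉ center G ∧ ∃ q j : ℕ, q.Prime ∧ orderOf w = q ^ j := by
  by_contra hcon
  push Not at hcon
  exact hx (mem_of_primary _ x fun w hw q j hq hj => by
    by_contra hwc
    exact hcon w hw hwc q j hq hj)

theorem orderOf_conj' (g x : G) : orderOf (g * x * g⁻¹) = orderOf x := by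
  rw [← MulAut.conj_apply, MulEquiv.orderOf_eq]

theorem conj_center_iff {g x : G} : g * x * g⁻¹ ∈ center G ↔ x ∈ center G :=
  TwoSizesNormal.conj_mem_center_iff

theorem mem_Cz_conj {g a z : G} : g * a * g⁻¹ ∈ Cz (g * z * g⁻¹) ↔ a ∈ Cz z := by
  rw [mem_Cz, mem_Cz]
  constructor
  · intro h
    have e1 : g * a * g⁻¹ * (g * z * g⁻¹) = g * (a * z) * g⁻¹ := by group
    have e2 : g * z * g⁻¹ * (g * a * g⁻¹) = g * (z * a) * g⁻¹ := by group
    have := h.eq
    rw [e1, e2] at this
    exact mul_left_cancel (mul_right_cancel this)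
  · intro h
    show g * a * g⁻¹ * (g * z * g⁻¹) = g * z * g⁻¹ * (g * a * g⁻¹)
    calc g * a * g⁻¹ * (g * z * g⁻¹) = g * (a * z) * g⁻¹ := by group
      _ = g * (z * a) * g⁻¹ := by rw [h.eq]
      _ = _ := by group

theorem index_Cz_conj (g z : G) : (Cz (g * z * g⁻¹)).index = (Cz z).index := by
  rw [show Cz (g * z * g⁻¹) = (Cz z).map (MulAut.conj g).toMonoidHom from
    TwoSizesNormal.centralizer_conj g z]
  exact index_map_equiv _ (MulAut.conj g)

/-- The hypothesis: exactly the class sizes `1, m, m n`. -/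
structure Hyp (G : Type*) [Group G] (m n : ℕ) : Prop where
  one_lt_m : 1 < m
  one_lt_n : 1 < n
  coprime : m.Coprime n
  sizes : ∀ z : G, z ∉ center G → (Cz z).index = m ∨ (Cz z).index = m * n
  exists_m : ∃ z : G, (Cz z).index = m
  exists_mn : ∃ z : G, (Cz z).index = m * n

/-- `z` has class size `m`. -/
def TM (m : ℕ) (z : G) : Prop := (Cz z).index = m

/-- `z` has class size `m n`. -/
def TN (m n : ℕ) (z : G) : Prop := (Cz z).index = m * n

namespace Hyp

variable {m n : ℕ} (hh : Hyp G m n)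

include hh

theorem m_ne_zero : m ≠ 0 := by have := hh.one_lt_m; omega

theorem n_ne_zero : n ≠ 0 := by have := hh.one_lt_n; omega

theorem not_tm_of_tn {z : G} (h : TN m n z) : ¬ TM m z := fun h' => by
  have h1 : m * n = m * 1 := by rw [mul_one]; exact h.symm.trans h'
  have := Nat.eq_of_mul_eq_mul_left (Nat.pos_of_ne_zero hh.m_ne_zero) h1
  have := hh.one_lt_n
  omega

theorem tm_notMem {z : G} (h : TM m z) : z ∉ center G := fun hc => by
  have h1 := index_one_iff.2 hc
  rw [show (centralizer ({z} : Set G)).index = m from h] at h1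
  have := hh.one_lt_m
  omega

theorem tn_notMem {z : G} (h : TN m n z) : z ∉ center G := fun hc => by
  have h1 := index_one_iff.2 hc
  rw [show (centralizer ({z} : Set G)).index = m * n from h, mul_eq_one] at h1
  have := hh.one_lt_n
  omega

theorem tn_of_not_tm {z : G} (hz : z ∉ center G) (h : ¬ TM m z) : TN m n z :=
  (hh.sizes z hz).resolve_left h

theorem dvd_index {z : G} (hz : z ∉ center G) : m ∣ (Cz z).index := by
  rcases hh.sizes z hz with h | h <;> rw [h]
  exact dvd_mul_right m n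

theorem tm_of_dvd {z : G} (hz : z ∉ center G) (h : (Cz z).index ∣ m) : TM m z := by
  by_contra h'
  rw [hh.tn_of_not_tm hz h'] at h
  have := Nat.le_of_dvd (Nat.pos_of_ne_zero hh.m_ne_zero) h
  have h2 : m * 1 < m * n := Nat.mul_lt_mul_of_pos_left hh.one_lt_n (Nat.pos_of_ne_zero hh.m_ne_zero)
  omega

theorem not_dvd_m_of_dvd_n {q : ℕ} (hq : q.Prime) (h : q ∣ n) : ¬ q ∣ m := fun h' =>
  hq.not_dvd_one (hh.coprime ▸ Nat.dvd_gcd h' h)

theorem tm_conj {g z : G} (h : TM m z) : TM m (g * z * g⁻¹) := (index_Cz_conj g z).trans h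

theorem tn_conj {g z : G} (h : TN m n z) : TN m n (g * z * g⁻¹) := (index_Cz_conj g z).trans h

variable [Finite G]

theorem eq_of_le_tm {a z : G} (ha : TM m a) (hz : z ∉ center G) (h : Cz a ≤ Cz z) : Cz a = Cz z := by
  have hm : TM m z := hh.tm_of_dvd hz (ha ▸ index_dvd_of_le h)
  refine eq_of_le_of_card_ge h (le_of_eq ?_)
  refine Nat.eq_of_mul_eq_mul_left (Nat.pos_of_ne_zero hh.m_ne_zero) ?_
  calc m * Nat.card (Cz z) = Nat.card G := by rw [← (Cz z).index_mul_card, show (Cz z).index = m from hm]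
    _ = _ := by rw [← (Cz a).index_mul_card, show (Cz a).index = m from ha]

theorem eq_of_le_tn {y z : G} (hy : TN m n y) (h : Cz z ≤ Cz y) : Cz z = Cz y := by
  have hz : z ∉ center G := fun hc => hh.tn_notMem hy (index_one_iff.1 (by
    have : Cz y = ⊤ := top_le_iff.1 (Cz_eq_top hc ▸ h)
    show (Cz y).index = 1
    rw [this, index_top]))
  refine eq_of_le_of_card_ge h (le_of_mul_le_mul_left ?_ (Nat.pos_of_ne_zero
    (index_ne_zero_of_finite (H := Cz z))))
  calc (Cz z).index * Nat.card (Cz y) ≤ (Cz y).index * Nat.card (Cz y) := by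
        refine Nat.mul_le_mul_right _ ?_
        rcases hh.sizes z hz with h' | h' <;> rw [h', show (Cz y).index = m * n from hy]
        exact Nat.le_mul_of_pos_right m (Nat.pos_of_ne_zero hh.n_ne_zero)
    _ = _ := by rw [index_mul_card, index_mul_card]

/-- The intersection with a centralizer of coprime element. -/
theorem inf_cases {a b : G} (ha : TM m a) (hb : b ∉ center G) (hab : Commute a b)
    (hco : (orderOf a).Coprime (orderOf b)) :
    Cz a = Cz b ∨ (TN m n (a * b) ∧ Cz (a * b) = Cz a ⊓ Cz b) := by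
  have hne := mul_notMem_center hab hco (hh.tm_notMem ha)
  by_cases h : TM m (a * b)
  · left
    have h1 := hh.eq_of_le_tm h (hh.tm_notMem ha) ((Cz_inf hab hco).le.trans inf_le_left)
    exact hh.eq_of_le_tm ha hb (h1 ▸ (Cz_inf hab hco).le.trans inf_le_right)
  · exact Or.inr ⟨hh.tn_of_not_tm hne h, Cz_inf hab hco⟩

theorem Cz_le_of_tn {a y : G} (ha : TM m a) (hy : TN m n y) (hay : Commute a y)
    (hco : (orderOf a).Coprime (orderOf y)) : Cz y ≤ Cz a := by
  rcases hh.inf_cases ha (hh.tn_notMem hy) hay hco with h | ⟨-, h⟩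
  · exact h.ge
  · rw [← hh.eq_of_le_tn hy (h.le.trans inf_le_right), h]
    exact inf_le_left

theorem tm_primary {x : G} (hx : TM m x) :
    ∃ w ∈ zpowers x, TM m w ∧ Cz w = Cz x ∧ ∃ q j : ℕ, q.Prime ∧ orderOf w = q ^ j := by
  obtain ⟨w, hw, hwc, hq⟩ := exists_primary (hh.tm_notMem hx)
  have hle : Cz x ≤ Cz w := centralizer_le_of_mem hw
  exact ⟨w, hw, hh.tm_of_dvd hwc (hx ▸ index_dvd_of_le hle), (hh.eq_of_le_tm hx hwc hle).symm, hq⟩

theorem vc (z : G) (q : ℕ) :
    (Cz z).index.factorization q + (Nat.card (Cz z)).factorization q =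
      (Nat.card G).factorization q := by
  rw [← (Cz z).index_mul_card, Nat.factorization_mul index_ne_zero_of_finite Nat.card_pos.ne',
    Finsupp.add_apply]

theorem vc_tm {z : G} (hz : TM m z) (q : ℕ) :
    m.factorization q + (Nat.card (Cz z)).factorization q = (Nat.card G).factorization q := by
  rw [← hh.vc z q, show (Cz z).index = m from hz]

theorem vc_tn {z : G} (hz : TN m n z) (q : ℕ) :
    m.factorization q + n.factorization q + (Nat.card (Cz z)).factorization q =
      (Nat.card G).factorization q := by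
  rw [← hh.vc z q, show (Cz z).index = m * n from hz, Nat.factorization_mul hh.m_ne_zero hh.n_ne_zero,
    Finsupp.add_apply]

end Hyp

variable [Finite G]

/-- A subgroup of index prime to `q` contains a Sylow subgroup. -/
theorem exists_sylow_le {q : ℕ} [hq : Fact q.Prime] (C : Subgroup G) (hC : ¬ q ∣ C.index) :
    ∃ P : Sylow q G, (P : Subgroup G) ≤ C := by
  obtain ⟨S⟩ : Nonempty (Sylow q C) := inferInstance
  obtain ⟨P, hP⟩ := (S.isPGroup'.map C.subtype).exists_le_sylow
  refine ⟨P, (eq_of_le_of_card_ge hP ?_).ge.trans (map_subtype_le _)⟩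
  rw [← Nat.card_congr (equivMapOfInjective (S : Subgroup C) _ (subtype_injective _)).toEquiv,
    P.card_eq_multiplicity]
  refine Nat.le_of_dvd Nat.card_pos (S.pow_dvd_card_of_pow_dvd_card ?_)
  have hd := Nat.ordProj_dvd (Nat.card G) q
  rw [← C.index_mul_card] at hd ⊢
  exact (((hq.out.coprime_iff_not_dvd).2 hC).pow_left _).dvd_of_dvd_mul_left hd

theorem exists_conj_mem {q : ℕ} [hq : Fact q.Prime] (P : Sylow q G) {w : G} {i : ℕ}
    (hi : orderOf w = q ^ i) : ∃ g : G, g⁻¹ * w * g ∈ (P : Subgroup G) := by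
  obtain ⟨Q, hQ⟩ := (IsPGroup.of_card (p := q) (G := zpowers w) (n := i)
    (by rw [Nat.card_zpowers, hi])).exists_le_sylow
  obtain ⟨g, rfl⟩ := MulAction.exists_smul_eq G P Q
  have h := hQ (mem_zpowers w)
  rw [Sylow.coe_subgroup_smul] at h
  obtain ⟨v, hv, e⟩ := h
  refine ⟨g, ?_⟩
  rwa [← show g * v * g⁻¹ = w from e, show g⁻¹ * (g * v * g⁻¹) * g = v by group]

theorem exists_orderOf_sylow {q : ℕ} [hq : Fact q.Prime] (P : Sylow q G) {a : G}
    (ha : a ∈ (P : Subgroup G)) : ∃ i, orderOf a = q ^ i := by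
  obtain ⟨i, hi⟩ := IsPGroup.iff_orderOf.1 P.2 ⟨a, ha⟩
  exact ⟨i, by rwa [Subgroup.orderOf_mk] at hi⟩

/-- The `q`-part of a subgroup exceeds that of the centre iff it contains a noncentral
`q`-element. -/
theorem lt_factorization_iff {q : ℕ} [hq : Fact q.Prime] (C : Subgroup G) (hZ : center G ≤ C) :
    (Nat.card (center G)).factorization q < (Nat.card C).factorization q ↔
      ∃ w ∈ C, w ∉ center G ∧ ∃ i, orderOf w = q ^ i := by
  obtain ⟨W, -, hW, hWc⟩ := TwoSizesNormal.exists_qPart (center G)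
    (fun a ha b _ => (Subgroup.mem_center_iff.1 ha b).symm) q
  constructor
  · intro hlt
    by_contra hcon
    push Not at hcon
    obtain ⟨S⟩ : Nonempty (Sylow q C) := inferInstance
    have hS : (S : Subgroup C).map C.subtype ≤ W := by
      rintro _ ⟨s, hs, rfl⟩
      obtain ⟨i, hi⟩ := IsPGroup.iff_orderOf.1 S.2 ⟨s, hs⟩
      rw [Subgroup.orderOf_mk, ← Subgroup.orderOf_coe] at hi
      refine (hW _).2 ⟨?_, i, hi⟩
      by_contra hsc
      exact hcon (s : G) s.2 hsc i hi
    have h := card_dvd_of_le hS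
    rw [← Nat.card_congr (equivMapOfInjective _ _ C.subtype_injective).toEquiv,
      S.card_eq_multiplicity, hWc, Nat.pow_dvd_pow_iff_le_right hq.out.one_lt] at h
    omega
  · rintro ⟨w, hwC, hwc, i, hi⟩
    have hp : IsPGroup q (W ⊔ zpowers w : Subgroup G) := by
      refine IsPGroup.to_sup_of_normal_right' (IsPGroup.of_card hWc)
        (IsPGroup.of_card (n := i) (by rw [Nat.card_zpowers, hi])) ?_
      intro a ha
      refine mem_normalizer_iff.2 fun b => ?_
      rw [← Subgroup.mem_center_iff.1 ((hW a).1 ha).1 b, mul_inv_cancel_right]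
    obtain ⟨j, hj⟩ := IsPGroup.iff_card.1 hp
    have hlt : W < W ⊔ zpowers w := lt_of_le_of_ne le_sup_left fun e =>
      hwc ((hW w).1 (e.ge (mem_sup_right (mem_zpowers w)))).1
    have hd := card_dvd_of_le (sup_le (fun a ha => hZ ((hW a).1 ha).1) (zpowers_le.2 hwC) :
      W ⊔ zpowers w ≤ C)
    rw [hj, hq.out.pow_dvd_iff_le_factorization Nat.card_pos.ne'] at hd
    have hlt' : Nat.card W < Nat.card (W ⊔ zpowers w : Subgroup G) :=
      lt_of_le_of_ne (Nat.le_of_dvd Nat.card_pos (card_dvd_of_le hlt.le))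
        fun e => hlt.ne (eq_of_le_of_card_ge hlt.le e.ge)
    rw [hWc, hj, Nat.pow_lt_pow_iff_right hq.out.one_lt] at hlt'
    omega

namespace Hyp

variable {m n : ℕ} (hh : Hyp G m n)

include hh

theorem not_sylow_le_center {q : ℕ} [hq : Fact q.Prime] (hqn : q ∣ m * n) (P : Sylow q G) :
    ¬ (P : Subgroup G) ≤ center G := by
  intro h
  obtain ⟨z, hz⟩ := hh.exists_mn
  exact P.not_dvd_index ((hz ▸ hqn : q ∣ (Cz z).index).trans
    (index_dvd_of_le fun u hu => center_le_Cz z (h hu)))

/-- Every noncentral element commutes with a noncentral `p`-element for `p ∣ m`. -/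
theorem exists_p_elem {p : ℕ} [hp : Fact p.Prime] (hpm : p ∣ m) {z : G} (hz : z ∉ center G) :
    ∃ w ∈ Cz z, w ∉ center G ∧ ∃ i, orderOf w = p ^ i := by
  obtain ⟨P⟩ : Nonempty (Sylow p G) := inferInstance
  have hP := hh.not_sylow_le_center (hpm.trans (dvd_mul_right m n)) P
  obtain ⟨u, huP, huc⟩ := SetLike.not_le_iff_exists.1 hP
  have h1 := (lt_factorization_iff (q := p) (Cz u) (center_le_Cz u)).2
    ⟨u, self_mem_Cz u, huc, exists_orderOf_sylow P huP⟩
  refine (lt_factorization_iff (q := p) (Cz z) (center_le_Cz z)).1 ?_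
  have hn : n.factorization p = 0 := Nat.factorization_eq_zero_of_not_dvd fun h =>
    hh.not_dvd_m_of_dvd_n hp.out h hpm
  have hpart : ∀ y : G, y ∉ center G → m.factorization p + (Nat.card (Cz y)).factorization p =
      (Nat.card G).factorization p := by
    intro y hy
    by_cases h : TM m y
    · exact hh.vc_tm h p
    · have := hh.vc_tn (hh.tn_of_not_tm hy h) p
      omega
  have := hpart u huc
  have := hpart z hz
  omega

theorem center_sylow {p : ℕ} [hp : Fact p.Prime] (hpm : p ∣ m) (P : Sylow p G) {u : G}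
    (h : ∀ v ∈ (P : Subgroup G), Commute v u) : u ∈ center G := by
  by_contra hc
  exact P.not_dvd_index ((hpm.trans (hh.dvd_index hc)).trans
    (index_dvd_of_le fun v hv => mem_Cz.2 (h v hv)))

theorem sylow_le_of_tm {z : G} (hz : TM m z) {q : ℕ} [hq : Fact q.Prime] (hqm : ¬ q ∣ m) :
    ∃ P : Sylow q G, (P : Subgroup G) ≤ Cz z :=
  exists_sylow_le _ (by rwa [show (Cz z).index = m from hz])

end Hyp

end CfsgLib.ClassSizes.CoprimeRank
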