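/-
A bound for the total size of a family of subgroups with trivially intersecting `p`-parts, each of
which is normalised by more.
-/
import Mathlib
import Cfsg.Agent.Lib.ClassSizes.CoprimeRank.Basic
import Cfsg.Agent.Lib.ClassSizes.TwoSizesNormal.Count

set_option autoImplicit false
set_option linter.all false

namespace CfsgLib.ClassSizes.CoprimeRank

open Subgroup
open scoped Pointwise

variable {G : Type*} [Group G] [Finite G] {p : ℕ} [hp : Fact p.Prime]

/-- Number of Sylow subgroups above a `p`-subgroup. -/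
theorem sylow_above (S : Subgroup G) (P : Sylow p G) (hSP : S ≤ (P : Subgroup G)) :
    Nat.card (normalizer (S : Set G)) * Nat.card (P : Subgroup G) ≤
      Nat.card {Q : Sylow p G // S ≤ (Q : Subgroup G)} *
        (Nat.card ↥((P : Subgroup G) ⊓ normalizer (S : Set G)) *
          Nat.card (normalizer ((P : Subgroup G) : Set G))) := by
  classical
  set K := normalizer (S : Set G)
  set L := K ⊓ normalizer ((P : Subgroup G) : Set G)
  have hsubset : ∀ k : K, S ≤ (((k : G) • P : Sylow p G) : Subgroup G) := by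
    intro k a ha
    rw [Sylow.coe_subgroup_smul]
    refine ⟨(k : G)⁻¹ * a * k, hSP ?_, by show (k : G) * ((k : G)⁻¹ * a * k) * (k : G)⁻¹ = a; group⟩
    have := (mem_normalizer_iff.1 (inv_mem k.2) a).1 ha
    rwa [inv_inv] at this
  let f : ↥K ⧸ L.subgroupOf K → {Q : Sylow p G // S ≤ (Q : Subgroup G)} := fun c =>
    ⟨((c.out : G) • P), hsubset c.out⟩
  have hinj : Function.Injective f := by
    intro c c' h
    rw [← QuotientGroup.out_eq' c, ← QuotientGroup.out_eq' c', QuotientGroup.eq, mem_subgroupOf]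
    refine mem_inf.2 ⟨(c.out⁻¹ * c'.out).2, ?_⟩
    refine Sylow.smul_eq_iff_mem_normalizer.1 ?_
    have h' : (c.out : G) • P = (c'.out : G) • P := congrArg Subtype.val h
    show ((c.out : G)⁻¹ * (c'.out : G)) • P = P
    rw [mul_smul, ← h', inv_smul_smul]
  have h1 : (L.subgroupOf K).index ≤ Nat.card {Q : Sylow p G // S ≤ (Q : Subgroup G)} := by
    rw [index_eq_card]; exact Nat.card_le_card_of_injective f hinj
  have h2 : (L.subgroupOf K).index * Nat.card L = Nat.card K := by
    rw [← Nat.card_congr (subgroupOfEquivOfLe (inf_le_left : L ≤ K)).toEquiv, index_mul_card]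
  -- `L P` lies in the normalizer
  have h3 : Nat.card L * Nat.card (P : Subgroup G) ≤
      Nat.card ↥((P : Subgroup G) ⊓ K) * Nat.card (normalizer ((P : Subgroup G) : Set G)) := by
    set N := normalizer ((P : Subgroup G) : Set G)
    have hidx : (P : Subgroup G).relIndex L ≤ (P : Subgroup G).relIndex N :=
      relIndex_le_of_le_right inf_le_right (by
        exact index_ne_zero_of_finite)
    have e1 : Nat.card ↥((P : Subgroup G) ⊓ L) * (P : Subgroup G).relIndex L = Nat.card L := by
      rw [← Nat.card_congr (subgroupOfEquivOfLe (inf_le_right : (P : Subgroup G) ⊓ L ≤ L)).toEquiv,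
        inf_subgroupOf_right, Subgroup.relIndex, card_mul_index]
    have e2 : Nat.card (P : Subgroup G) * (P : Subgroup G).relIndex N = Nat.card N := by
      rw [← Nat.card_congr (subgroupOfEquivOfLe (le_normalizer : (P : Subgroup G) ≤ N)).toEquiv,
        Subgroup.relIndex, card_mul_index]
    have e3 : Nat.card ↥((P : Subgroup G) ⊓ L) ≤ Nat.card ↥((P : Subgroup G) ⊓ K) :=
      Nat.le_of_dvd Nat.card_pos (card_dvd_of_le (inf_le_inf_left _ inf_le_left))
    calc Nat.card L * Nat.card (P : Subgroup G)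
        = Nat.card ↥((P : Subgroup G) ⊓ L) * ((P : Subgroup G).relIndex L * Nat.card (P : Subgroup G)) := by
          rw [← e1]; ring
      _ ≤ Nat.card ↥((P : Subgroup G) ⊓ K) * ((P : Subgroup G).relIndex N * Nat.card (P : Subgroup G)) := by
          gcongr
      _ = _ := by rw [← e2]; ring
  calc Nat.card K * Nat.card (P : Subgroup G)
      = (L.subgroupOf K).index * (Nat.card L * Nat.card (P : Subgroup G)) := by rw [← h2]; ring
    _ ≤ _ := Nat.mul_le_mul h1 h3

/-- The orders in a family sum to less than `2 |G| / q`. -/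
theorem family_bound (W : Subgroup G) (ℱ : Finset (Subgroup G)) (S : Subgroup G → Subgroup G)
    {s q : ℕ} (hne : ℱ.Nonempty) (hS : ∀ X ∈ ℱ, IsPGroup p (S X)) (hWS : ∀ X ∈ ℱ, W ≤ S X)
    (hs : ∀ X ∈ ℱ, Nat.card (S X) = s) (hWs : 2 * Nat.card W ≤ s)
    (hinf : ∀ X ∈ ℱ, ∀ Y ∈ ℱ, X ≠ Y → S X ⊓ S Y ≤ W)
    (hgrow : ∀ X ∈ ℱ, ∀ P : Sylow p G, S X ≤ (P : Subgroup G) →
      Nat.card X * q * Nat.card ↥((P : Subgroup G) ⊓ normalizer (S X : Set G)) ≤
        Nat.card (normalizer (S X : Set G)) * s) :
    q * ∑ X ∈ ℱ, Nat.card X < 2 * Nat.card G := by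
  classical
  haveI := Fintype.ofFinite G
  haveI := Fintype.ofFinite (Sylow p G)
  obtain ⟨P₀⟩ : Nonempty (Sylow p G) := inferInstance
  set π := Nat.card (P₀ : Subgroup G)
  set w := Nat.card W
  set ν := Nat.card (normalizer ((P₀ : Subgroup G) : Set G))
  have hw : 0 < w := Nat.card_pos
  have hπ : ∀ P : Sylow p G, Nat.card (P : Subgroup G) = π := fun P => by
    rw [P.card_eq_multiplicity]; exact P₀.card_eq_multiplicity.symm
  have hidx : ∀ P : Sylow p G, Nat.card (Sylow p G) =
      (normalizer ((P : Subgroup G) : Set G)).index := fun P => P.card_eq_index_normalizer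
  have hν : ∀ P : Sylow p G, Nat.card (normalizer ((P : Subgroup G) : Set G)) = ν := by
    intro P
    refine Nat.eq_of_mul_eq_mul_left (Nat.card_pos (α := Sylow p G)) ?_
    conv_lhs => rw [hidx P, index_mul_card]
    rw [hidx P₀, index_mul_card]
  have hsyl : Nat.card (Sylow p G) * ν = Nat.card G := by
    rw [hidx P₀, index_mul_card]
  -- per Sylow subgroup
  let above : Sylow p G → Finset (Subgroup G) := fun P => ℱ.filter fun X => S X ≤ (P : Subgroup G)
  let Wf : Finset G := Finset.univ.filter fun a => a ∈ W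
  have hF : ∀ P, (above P).card * (s - w) ≤ π - w := by
    intro P
    by_cases hPe : (above P) = ∅
    · rw [hPe, Finset.card_empty, zero_mul]; exact Nat.zero_le _
    obtain ⟨X₀, hX₀⟩ := Finset.nonempty_iff_ne_empty.2 hPe
    have hWP : Wf ⊆ Finset.univ.filter fun a => a ∈ (P : Subgroup G) := fun a ha => by
      simp only [Wf, Finset.mem_filter, Finset.mem_univ, true_and] at ha ⊢
      exact (Finset.mem_filter.1 hX₀).2 (hWS X₀ (Finset.mem_filter.1 hX₀).1 ha)
    let F : Subgroup G → Finset G := fun X => (Finset.univ.filter fun a => a ∈ S X) \ Wf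
    have hFc : ∀ X ∈ above P, (F X).card = s - w := by
      intro X hX
      have hX' := (Finset.mem_filter.1 hX).1
      rw [Finset.card_sdiff_of_subset (fun a ha => by
        simp only [Wf, Finset.mem_filter, Finset.mem_univ, true_and] at ha ⊢; exact hWS X hX' ha),
        TwoSizesNormal.card_filter_mem, TwoSizesNormal.card_filter_mem, hs X hX']
    have hdisj : ((above P) : Set (Subgroup G)).PairwiseDisjoint F := by
      intro X hX Y hY hne'
      rw [Function.onFun, Finset.disjoint_left]
      intro a haX haY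
      simp only [F, Wf, Finset.mem_sdiff, Finset.mem_filter, Finset.mem_univ, true_and] at haX haY
      exact haX.2 (hinf X (Finset.mem_filter.1 hX).1 Y (Finset.mem_filter.1 hY).1 hne' ⟨haX.1, haY.1⟩)
    have hsub : (above P).biUnion F ⊆ (Finset.univ.filter fun a => a ∈ (P : Subgroup G)) \ Wf := by
      intro a ha
      simp only [Finset.mem_biUnion, F, Finset.mem_sdiff, Finset.mem_filter, Finset.mem_univ,
        true_and] at ha ⊢
      obtain ⟨X, hX, haX, haW⟩ := ha
      exact ⟨(Finset.mem_filter.1 hX).2 haX, haW⟩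
    have h := Finset.card_le_card hsub
    rw [Finset.card_biUnion hdisj, Finset.sum_congr rfl hFc, Finset.sum_const, smul_eq_mul,
      Finset.card_sdiff_of_subset hWP, TwoSizesNormal.card_filter_mem,
      TwoSizesNormal.card_filter_mem, hπ P] at h
    exact h
  -- per member
  have hX : ∀ X ∈ ℱ, Nat.card X * q * π ≤
      s * ν * (Finset.univ.filter fun P : Sylow p G => S X ≤ (P : Subgroup G)).card := by
    intro X hX
    obtain ⟨P, hP⟩ := (hS X hX).exists_le_sylow
    have h1 := sylow_above (S X) P hP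
    rw [hπ P, hν P, Nat.card_eq_fintype_card (α := {Q : Sylow p G // S X ≤ (Q : Subgroup G)}),
      Fintype.card_subtype] at h1
    have h2 := hgrow X hX P hP
    refine Nat.le_of_mul_le_mul_left ?_
      (Nat.card_pos (α := ↥((P : Subgroup G) ⊓ normalizer (S X : Set G))))
    calc Nat.card ↥((P : Subgroup G) ⊓ normalizer (S X : Set G)) * (Nat.card X * q * π)
        = Nat.card X * q * Nat.card ↥((P : Subgroup G) ⊓ normalizer (S X : Set G)) * π := by ring
      _ ≤ Nat.card (normalizer (S X : Set G)) * s * π := Nat.mul_le_mul_right _ h2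
      _ = s * (Nat.card (normalizer (S X : Set G)) * π) := by ring
      _ ≤ _ := (Nat.mul_le_mul_left s h1).trans (le_of_eq (by ring))
  have hsum : ∑ X ∈ ℱ, (Finset.univ.filter fun P : Sylow p G => S X ≤ (P : Subgroup G)).card =
      ∑ P : Sylow p G, (above P).card := by
    simp only [above, Finset.card_filter]
    exact Finset.sum_comm
  have htot : q * π * (s - w) * ∑ X ∈ ℱ, Nat.card X ≤ s * Nat.card G * (π - w) := by
    calc q * π * (s - w) * ∑ X ∈ ℱ, Nat.card X
        = (s - w) * ∑ X ∈ ℱ, Nat.card X * q * π := by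
          rw [Finset.mul_sum, Finset.mul_sum]; exact Finset.sum_congr rfl fun _ _ => by ring
      _ ≤ (s - w) * ∑ X ∈ ℱ,
          s * ν * (Finset.univ.filter fun P : Sylow p G => S X ≤ (P : Subgroup G)).card :=
          Nat.mul_le_mul_left _ (Finset.sum_le_sum hX)
      _ = s * ν * ∑ P : Sylow p G, (above P).card * (s - w) := by
          rw [← Finset.mul_sum, hsum, ← Finset.sum_mul]; ring
      _ ≤ s * ν * ∑ _P : Sylow p G, (π - w) := Nat.mul_le_mul_left _ (Finset.sum_le_sum fun P _ => hF P)
      _ = _ := by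
          rw [Finset.sum_const, Finset.card_univ, smul_eq_mul, ← Nat.card_eq_fintype_card, ← hsyl]
          ring
  obtain ⟨X₀, hX₀⟩ := hne
  have hs0 : 0 < s := by omega
  have hG : 0 < Nat.card G := Nat.card_pos
  have hπ0 : 0 < π := Nat.card_pos
  have hlt : s * Nat.card G * (π - w) < s * Nat.card G * π :=
    Nat.mul_lt_mul_of_pos_left (by omega) (Nat.mul_pos hs0 hG)
  have hs2 : s ≤ 2 * (s - w) := by omega
  by_contra hcon
  rw [not_lt] at hcon
  have : s * Nat.card G * π ≤ q * π * (s - w) * ∑ X ∈ ℱ, Nat.card X := by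
    calc s * Nat.card G * π ≤ 2 * (s - w) * Nat.card G * π :=
          Nat.mul_le_mul_right _ (Nat.mul_le_mul_right _ hs2)
      _ = (s - w) * π * (2 * Nat.card G) := by ring
      _ ≤ (s - w) * π * (q * ∑ X ∈ ℱ, Nat.card X) := Nat.mul_le_mul_left _ hcon
      _ = _ := by ring
  omega

/-- A `q`-element normalising but not in `X` makes the index grow. -/
theorem grow_of_normal {q : ℕ} [hq : Fact q.Prime] (hqp : q ≠ p) {X K : Subgroup G} (hXK : X ≤ K)
    (hK : K ≤ normalizer (X : Set G)) {v : G} {i : ℕ} (hv : v ∈ K) (hvX : v ∉ X)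
    (hvo : orderOf v = q ^ i) (P : Subgroup G) (hP : IsPGroup p P) {s : ℕ}
    (hs : s = p ^ (Nat.card X).factorization p) :
    Nat.card X * q * Nat.card ↥(P ⊓ K) ≤ Nat.card K * s := by
  haveI hn : (X.subgroupOf K).Normal := ⟨fun a ha g => by
    rw [mem_subgroupOf] at ha ⊢
    exact (mem_normalizer_iff.1 (hK g.2) (a : G)).1 ha⟩
  let π := QuotientGroup.mk' (X.subgroupOf K)
  let v' : K := ⟨v, hv⟩
  have hd : q ∣ Nat.card (K ⧸ X.subgroupOf K) := by
    have hv' : orderOf (π v') ∣ q ^ i := by
      have h := orderOf_map_dvd π v'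
      rwa [← Subgroup.orderOf_coe v', show orderOf (v' : G) = q ^ i from hvo] at h
    obtain ⟨l, -, hl⟩ := (Nat.dvd_prime_pow hq.out).1 hv'
    refine dvd_trans ?_ (orderOf_dvd_natCard (π v'))
    rw [hl]
    refine dvd_pow_self q fun h0 => hvX ?_
    rw [h0, pow_zero, orderOf_eq_one_iff] at hl
    exact mem_subgroupOf.1 ((QuotientGroup.eq_one_iff v').1 hl)
  have hKc : Nat.card (K ⧸ X.subgroupOf K) * Nat.card X = Nat.card K := by
    rw [← index_eq_card, ← Nat.card_congr (subgroupOfEquivOfLe hXK).toEquiv, index_mul_card]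
  obtain ⟨e, he⟩ := hd
  obtain ⟨j, hj⟩ := IsPGroup.iff_card.1 (hP.to_le (inf_le_left : P ⊓ K ≤ P))
  rw [he] at hKc
  rw [hj, hs]
  have h1 : p ^ j ∣ q * e * Nat.card X := hKc ▸ hj ▸ card_dvd_of_le inf_le_right
  have he0 : e ≠ 0 := fun h => (Nat.card_pos (α := K)).ne' (by rw [← hKc, h]; simp)
  have hne : q * e * Nat.card X ≠ 0 := hKc ▸ Nat.card_pos.ne'
  rw [hp.out.pow_dvd_iff_le_factorization hne, Nat.factorization_mul
    (mul_ne_zero hq.out.ne_zero he0) Nat.card_pos.ne', Nat.factorization_mul hq.out.ne_zero he0,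
    Finsupp.add_apply, Finsupp.add_apply, hq.out.factorization,
    Finsupp.single_eq_of_ne (Ne.symm hqp)] at h1
  have h2 : p ^ j ≤ e * p ^ (Nat.card X).factorization p := by
    calc p ^ j ≤ p ^ (e.factorization p + (Nat.card X).factorization p) :=
          Nat.pow_le_pow_right hp.out.pos (by omega)
      _ = p ^ e.factorization p * p ^ (Nat.card X).factorization p := pow_add _ _ _
      _ ≤ _ := Nat.mul_le_mul_right _ (Nat.le_of_dvd (Nat.pos_of_ne_zero he0) (Nat.ordProj_dvd e p))
  calc Nat.card X * q * p ^ j ≤ Nat.card X * q * (e * p ^ (Nat.card X).factorization p) :=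
        Nat.mul_le_mul_left _ h2
    _ = _ := by rw [← hKc]; ring

end CfsgLib.ClassSizes.CoprimeRank
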