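/-
Class sizes `1, m, m n`: a type `m` element of order prime to a divisor of `n` has abelian
centralizer.
-/
import Mathlib
import Cfsg.Agent.Lib.ClassSizes.CoprimeRank.Basic
import Cfsg.Agent.Lib.ClassSizes.TwoSizesNormal.Count

set_option autoImplicit false
set_option linter.all false

namespace CfsgLib.ClassSizes.CoprimeRank

open Subgroup CfsgLib.ClassSizes.TwoSizes

variable {G : Type*} [Group G] [Finite G]

theorem mem_sylow_of_commute {q : ℕ} [hq : Fact q.Prime] (P : Sylow q G) {w : G} {i : ℕ}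
    (hw : orderOf w = q ^ i) (h : ∀ a ∈ (P : Subgroup G), Commute a w) : w ∈ (P : Subgroup G) := by
  have hpg : IsPGroup q ((P : Subgroup G) ⊔ zpowers w : Subgroup G) := by
    refine IsPGroup.to_sup_of_normal_right' P.isPGroup'
      (IsPGroup.of_card (n := i) (by rw [Nat.card_zpowers, hw])) ?_
    intro a ha
    refine mem_normalizer_iff.2 fun b => ⟨fun hb => ?_, fun hb => ?_⟩
    · obtain ⟨j, rfl⟩ := mem_zpowers_iff.1 hb
      rw [((h a ha).zpow_right j).eq, mul_inv_cancel_right]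
      exact zpow_mem_zpowers w j
    · obtain ⟨j, hj⟩ := mem_zpowers_iff.1 hb
      have hb' : b = a⁻¹ * w ^ j * a := by rw [hj]; group
      rw [hb', mul_assoc, ((h a ha).zpow_right j).symm.eq, inv_mul_cancel_left]
      exact zpow_mem_zpowers w j
  rw [← P.is_maximal' hpg le_sup_left]
  exact mem_sup_right (mem_zpowers w)

theorem sylow_le_Cz_of_mem {q : ℕ} [hq : Fact q.Prime] {z : G} (P : Sylow q G)
    (hP : (P : Subgroup G) ≤ Cz z) {i : ℕ} (hi : orderOf z = q ^ i) : z ∈ (P : Subgroup G) :=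
  mem_sylow_of_commute P hi fun a ha => mem_Cz.1 (hP ha)

namespace Hyp

variable {m n : ℕ} (hh : Hyp G m n)

include hh

/-- A type `m` element of `q`-power order, `q ∣ n`, has the centralizer of any commuting conjugate
type `m` element of coprime order. -/
theorem home {t : ℕ} [ht : Fact t.Prime] (htn : t ∣ n) {x : G} {r j : ℕ} (hr : r.Prime)
    (hrt : r ≠ t) (hx : TM m x) (hxo : orderOf x = r ^ j) (T : Sylow t G)
    (hT : (T : Subgroup G) ≤ Cz x) {f : G} {i : ℕ} (hfo : orderOf f = t ^ i) (hf : TM m f) :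
    ∃ g : G, Cz f = Cz (g * x * g⁻¹) := by
  obtain ⟨P, hP⟩ := hh.sylow_le_of_tm hf (q := t) (hh.not_dvd_m_of_dvd_n ht.out htn)
  have hfP := sylow_le_Cz_of_mem P hP hfo
  obtain ⟨g, rfl⟩ := MulAction.exists_smul_eq G T P
  have hPx : ((g • T : Sylow t G) : Subgroup G) ≤ Cz (g * x * g⁻¹) := by
    rw [Sylow.coe_subgroup_smul]
    rintro _ ⟨a, ha, rfl⟩
    exact mem_Cz_conj.2 (hT ha)
  refine ⟨g, ?_⟩
  rcases hh.inf_cases (hh.tm_conj (g := g) hx) (hh.tm_notMem hf) (mem_Cz.1 (hPx hfP)).symm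
    (coprime_pow_pow hr ht.out hrt ((orderOf_conj' g x).trans hxo) hfo) with h | ⟨h, hC⟩
  · exact h.symm
  · exfalso
    have hle : ((g • T : Sylow t G) : Subgroup G) ≤ Cz (g * x * g⁻¹ * f) := hC ▸ le_inf hPx hP
    have h1 := card_dvd_of_le hle
    rw [Sylow.card_eq_multiplicity, ht.out.pow_dvd_iff_le_factorization Nat.card_pos.ne'] at h1
    have h2 := hh.vc_tn h t
    have h3 := ht.out.factorization_pos_of_dvd hh.n_ne_zero htn
    omega

/-- The key lemma. -/
theorem switch {t : ℕ} [ht : Fact t.Prime] (htn : t ∣ n) {x : G} {r j : ℕ} (hr : r.Prime)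
    (hrt : r ≠ t) (hx : TM m x) (hxo : orderOf x = r ^ j) (T : Sylow t G)
    (hT : (T : Subgroup G) ≤ Cz x) :
    (∀ f ∈ (T : Subgroup G), f ∉ center G → Cz f = Cz x) ∧
      ∀ y : G, TN m n y → ∀ f ∈ Cz y, f ∉ center G → ∀ i, orderOf f ≠ t ^ i := by
  -- centralizers of `t`-elements lie in conjugates of `Cz x`
  have hconj : ∀ (f : G) (i : ℕ), orderOf f = t ^ i → f ∉ center G →
      ∃ g : G, Cz f ≤ Cz (g * x * g⁻¹) := by
    intro f i hi hfc
    by_cases hf : TM m f
    · obtain ⟨g, hg⟩ := hh.home htn hr hrt hx hxo T hT hi hf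
      exact ⟨g, hg.le⟩
    · obtain ⟨g, hg⟩ := exists_conj_mem T hi
      have hf' : TN m n (g⁻¹ * f * g) := by
        have := hh.tn_conj (g := g⁻¹) (hh.tn_of_not_tm hfc hf)
        rwa [inv_inv] at this
      have ho : orderOf (g⁻¹ * f * g) = t ^ i := by
        have := orderOf_conj' g⁻¹ f
        rw [inv_inv] at this
        rw [this, hi]
      have hle := hh.Cz_le_of_tn hx hf' (mem_Cz.1 (hT hg)).symm (coprime_pow_pow hr ht.out hrt hxo ho)
      refine ⟨g, fun a ha => ?_⟩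
      have e : a = g * (g⁻¹ * a * g) * g⁻¹ := by group
      rw [e]
      refine mem_Cz_conj.2 (hle ?_)
      rw [← mem_Cz_conj (g := g), ← e, show g * (g⁻¹ * f * g) * g⁻¹ = f by group]
      exact ha
  -- some element commutes with no noncentral `t`-element
  obtain ⟨z₀, hz₀, hno⟩ : ∃ z : G, z ∉ center G ∧
      ∀ f ∈ Cz z, f ∉ center G → ∀ i, orderOf f ≠ t ^ i := by
    by_contra hcon
    push Not at hcon
    have hcov : ∀ z ∈ (⊤ : Subgroup G), ∃ g ∈ (⊤ : Subgroup G), g⁻¹ * z * g ∈ Cz x := by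
      intro z _
      by_cases hz : z ∈ center G
      · exact ⟨1, mem_top _, by rw [inv_one, one_mul, mul_one]; exact center_le_Cz x hz⟩
      · obtain ⟨f, hfz, hfc, i, hi⟩ := hcon z hz
        obtain ⟨g, hg⟩ := hconj f i hi hfc
        refine ⟨g, mem_top _, ?_⟩
        rw [← mem_Cz_conj (g := g), show g * (g⁻¹ * z * g) * g⁻¹ = z by group]
        exact hg (mem_Cz.2 (mem_Cz.1 hfz).symm)
    have htop := TwoSizesNormal.le_of_cover ⊤ (Cz x) le_top hcov
    refine hh.tm_notMem hx (index_one_iff.1 ?_)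
    show (Cz x).index = 1
    rw [top_le_iff.1 htop, index_top]
  obtain ⟨f₀, hf₀T, hf₀c⟩ : ∃ f ∈ (T : Subgroup G), f ∉ center G :=
    SetLike.not_le_iff_exists.1 (hh.not_sylow_le_center (htn.trans (dvd_mul_left n m)) T)
  obtain ⟨i₀, hi₀⟩ := exists_orderOf_sylow T hf₀T
  have hzG : (Nat.card (center G)).factorization t < (Nat.card G).factorization t := by
    have h1 := (lt_factorization_iff (q := t) ⊤ le_top).2 ⟨f₀, mem_top _, hf₀c, i₀, hi₀⟩
    rwa [Subgroup.card_top] at h1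
  have hv₀ : (Nat.card (Cz z₀)).factorization t = (Nat.card (center G)).factorization t := by
    refine le_antisymm (not_lt.1 fun h => ?_)
      ((Nat.factorization_le_iff_dvd Nat.card_pos.ne' Nat.card_pos.ne').2
        (card_dvd_of_le (center_le_Cz z₀)) t)
    obtain ⟨f, hf, hfc, i, hi⟩ := (lt_factorization_iff (q := t) _ (center_le_Cz z₀)).1 h
    exact hno f hf hfc i hi
  have hmt : m.factorization t = 0 :=
    Nat.factorization_eq_zero_of_not_dvd (hh.not_dvd_m_of_dvd_n ht.out htn)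
  have hz₀n : TN m n z₀ := hh.tn_of_not_tm hz₀ fun h => by
    have := hh.vc_tm h t
    omega
  have hnone : ∀ y : G, TN m n y → ∀ f ∈ Cz y, f ∉ center G → ∀ i, orderOf f ≠ t ^ i := by
    intro y hy f hf hfc i hi
    have h1 := (lt_factorization_iff (q := t) (Cz y) (center_le_Cz y)).2 ⟨f, hf, hfc, i, hi⟩
    have h2 := hh.vc_tn hy t
    have h3 := hh.vc_tn hz₀n t
    omega
  refine ⟨fun f hfT hfc => ?_, hnone⟩
  obtain ⟨i, hi⟩ := exists_orderOf_sylow T hfT
  rcases hh.inf_cases hx hfc (mem_Cz.1 (hT hfT)).symm (coprime_pow_pow hr ht.out hrt hxo hi) with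
    h | ⟨h, hC⟩
  · exact h.symm
  · refine absurd hi (hnone _ h f ?_ hfc i)
    rw [hC]
    exact mem_inf.2 ⟨hT hfT, self_mem_Cz f⟩

/-- A type `m` element of order prime to some prime divisor of `n` has abelian centralizer. -/
theorem commute_of_other {t : ℕ} [ht : Fact t.Prime] (htn : t ∣ n) {x : G} {r j : ℕ} (hr : r.Prime)
    (hrt : r ≠ t) (hx : TM m x) (hxo : orderOf x = r ^ j) :
    ∀ a ∈ Cz x, ∀ b ∈ Cz x, Commute a b := by
  obtain ⟨T, hT⟩ := hh.sylow_le_of_tm hx (q := t) (hh.not_dvd_m_of_dvd_n ht.out htn)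
  obtain ⟨hTf, hnone⟩ := hh.switch htn hr hrt hx hxo T hT
  obtain ⟨f₀, hf₀T, hf₀c⟩ : ∃ f ∈ (T : Subgroup G), f ∉ center G :=
    SetLike.not_le_iff_exists.1 (hh.not_sylow_le_center (htn.trans (dvd_mul_left n m)) T)
  obtain ⟨i₀, hi₀⟩ := exists_orderOf_sylow T hf₀T
  have hf₀ : Cz f₀ = Cz x := hTf f₀ hf₀T hf₀c
  intro a ha b hb
  have hab : a ∈ Cz b := mem_of_primary _ a fun w hw q l hq hl => by
    rw [mem_Cz]
    by_cases hwc : w ∈ center G
    · exact (Subgroup.mem_center_iff.1 hwc b).symm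
    have hwC : w ∈ Cz x := (zpowers_le.2 ha) hw
    have hwf : Commute w f₀ := mem_Cz.1 (hf₀ ▸ hwC)
    have hwm : TM m w := by
      by_contra h
      exact hnone w (hh.tn_of_not_tm hwc h) f₀ (mem_Cz.2 hwf.symm) hf₀c i₀ hi₀
    suffices h : Cz w = Cz x from (mem_Cz.1 (h ▸ hb : b ∈ Cz w)).symm
    rcases eq_or_ne q t with rfl | hqt
    · refine hTf w ?_ hwc
      refine mem_sylow_of_commute T hl fun v hv => ?_
      by_cases hvc : v ∈ center G
      · exact (Subgroup.mem_center_iff.1 hvc w).symm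
      · exact (mem_Cz.1 (hTf v hv hvc ▸ hwC : w ∈ Cz v)).symm
    · have hf₀m : TM m f₀ := (congrArg Subgroup.index hf₀).trans hx
      rcases hh.inf_cases hwm hf₀c hwf (coprime_pow_pow hq ht.out hqt hl hi₀) with h | ⟨h, hC⟩
      · exact h.trans hf₀
      · refine absurd hi₀ (hnone _ h f₀ ?_ hf₀c i₀)
        rw [hC]
        exact mem_inf.2 ⟨mem_Cz.2 hwf.symm, self_mem_Cz f₀⟩
  exact mem_Cz.1 hab

end Hyp

end CfsgLib.ClassSizes.CoprimeRank
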