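/-
Class sizes `1, m, m n`: the case where type `m` elements are `t`-elements.
-/
import Mathlib
import Cfsg.Agent.Lib.ClassSizes.CoprimeRank.Switch
import Cfsg.Agent.Lib.Orders.RegularClasses

set_option autoImplicit false
set_option linter.all false

namespace CfsgLib.ClassSizes.CoprimeRank

open Subgroup CfsgLib.ClassSizes.TwoSizes

variable {G : Type*} [Group G] [Finite G]

/-- The residual configuration. -/
structure Res (G : Type*) [Group G] (m n t : ℕ) : Prop where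
  hyp : Hyp G m n
  prime : t.Prime
  only : ∀ q : ℕ, q.Prime → q ∣ n → q = t
  tm_order : ∀ (w : G) (q j : ℕ), TM m w → q.Prime → orderOf w = q ^ j → q = t
  nonabelian : ∀ z : G, TM m z → ∃ a ∈ Cz z, ∃ b ∈ Cz z, ¬ Commute a b

/-- Either all centralizers of type `m` elements are abelian, or the residual case holds. -/
theorem Hyp.abelian_or_res {m n : ℕ} (hh : Hyp G m n) :
    (∀ z : G, TM m z → ∀ a ∈ Cz z, ∀ b ∈ Cz z, Commute a b) ∨ ∃ t, Res G m n t := by
  by_cases hab : ∀ z : G, TM m z → ∀ a ∈ Cz z, ∀ b ∈ Cz z, Commute a b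
  · exact Or.inl hab
  right
  push Not at hab
  obtain ⟨x₀, hx₀, hnab₀⟩ := hab
  obtain ⟨x, -, hx, hC, r, j, hr, hxo⟩ := hh.tm_primary hx₀
  have hnab : ∃ a ∈ Cz x, ∃ b ∈ Cz x, ¬ Commute a b := by rw [hC]; exact hnab₀
  have honly : ∀ q : ℕ, q.Prime → q ∣ n → q = r := by
    intro q hq hqn
    by_contra hne
    haveI := Fact.mk hq
    obtain ⟨a, ha, b, hb, hab⟩ := hnab
    exact hab (hh.commute_of_other hqn hr (Ne.symm hne) hx hxo a ha b hb)
  obtain ⟨q, hq, hqn⟩ := Nat.exists_prime_and_dvd (by have := hh.one_lt_n; omega : n ≠ 1)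
  have hrn : r ∣ n := honly q hq hqn ▸ hqn
  haveI := Fact.mk hr
  obtain ⟨T, hT⟩ := hh.sylow_le_of_tm hx (q := r) (hh.not_dvd_m_of_dvd_n hr hrn)
  have hxT := sylow_le_Cz_of_mem T hT hxo
  have hord : ∀ (w : G) (q j : ℕ), TM m w → q.Prime → orderOf w = q ^ j → q = r := by
    intro u l i hu hl huo
    by_contra hne
    have hab := hh.commute_of_other hrn hl hne hu huo
    obtain ⟨P, hP⟩ := hh.sylow_le_of_tm hu (q := r) (hh.not_dvd_m_of_dvd_n hr hrn)
    obtain ⟨g, rfl⟩ := MulAction.exists_smul_eq G T P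
    have hxu : g * x * g⁻¹ ∈ Cz u := hP (by rw [Sylow.coe_subgroup_smul]; exact ⟨x, hxT, rfl⟩)
    have hle : Cz u ≤ Cz (g * x * g⁻¹) := fun a ha => mem_Cz.2 (hab a ha _ hxu)
    have heq := hh.eq_of_le_tm hu (fun h => hh.tm_notMem hx (conj_center_iff.1 h)) hle
    obtain ⟨a, ha, b, hb, hnc⟩ := hnab
    have := hab (g * a * g⁻¹) (heq ▸ mem_Cz_conj.2 ha) (g * b * g⁻¹) (heq ▸ mem_Cz_conj.2 hb)
    exact hnc (mem_Cz.1 (mem_Cz_conj.1 (mem_Cz.2 this)))
  refine ⟨r, hh, hr, honly, hord, fun z hz => ?_⟩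
  by_contra hcon
  push Not at hcon
  obtain ⟨p, hp, hpm⟩ := Nat.exists_prime_and_dvd (by have := hh.one_lt_m; omega : m ≠ 1)
  haveI := Fact.mk hp
  obtain ⟨u, huz, huc, i, hi⟩ := hh.exists_p_elem hpm (hh.tm_notMem hz)
  have hle : Cz z ≤ Cz u := fun a ha => mem_Cz.2 (hcon a ha u huz)
  have heq := hh.eq_of_le_tm hz huc hle
  have := hord u p i ((congrArg Subgroup.index heq).symm.trans hz) hp hi
  exact hh.not_dvd_m_of_dvd_n hr hrn (this ▸ hpm)

theorem exists_split' {t : ℕ} (ht : t.Prime) (z : G) :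
    ∃ u v : G, u ∈ zpowers z ∧ v ∈ zpowers z ∧ u * v = z ∧ Commute u v ∧
      (∃ i, orderOf u = t ^ i) ∧ (orderOf v).Coprime t := by
  obtain ⟨u, v, hu, hv, h, hc, ho, hv'⟩ := CfsgLib.Orders.exists_split ht z
  exact ⟨u, v, hu, hv, h.symm, hc, ho, hv'⟩

namespace Res

variable {m n t : ℕ} (hs : Res G m n t)

include hs

theorem t_dvd : t ∣ n := by
  obtain ⟨q, hq, hqn⟩ := Nat.exists_prime_and_dvd (by have := hs.hyp.one_lt_n; omega : n ≠ 1)
  exact hs.only q hq hqn ▸ hqn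

theorem not_dvd_m : ¬ t ∣ m := hs.hyp.not_dvd_m_of_dvd_n hs.prime hs.t_dvd

theorem tn_of_ne {w : G} {q j : ℕ} (hq : q.Prime) (hqt : q ≠ t) (hw : orderOf w = q ^ j)
    (hwc : w ∉ center G) : TN m n w :=
  hs.hyp.tn_of_not_tm hwc fun h => hqt (hs.tm_order w q j h hq hw)

/-- The `t'`-part of a type `m` element is central. -/
theorem tm_split {z : G} (hz : TM m z) :
    ∃ u v : G, u * v = z ∧ TM m u ∧ (∃ i, orderOf u = t ^ i) ∧ v ∈ center G ∧
      (orderOf v).Coprime t := by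
  obtain ⟨u, v, hu, hv, huv, hcom, ho, hv'⟩ := exists_split' hs.prime z
  have hvc : v ∈ center G := mem_of_primary _ v fun w hw q j hq hj => by
    by_contra hwc
    have hwz : w ∈ zpowers z := (zpowers_le.2 hv) hw
    have hwm : TM m w :=
      hs.hyp.tm_of_dvd hwc (hz ▸ index_dvd_of_le (centralizer_le_of_mem hwz))
    have hqt := hs.tm_order w q j hwm hq hj
    subst hqt
    refine hwc ?_
    have h1 : orderOf w ∣ orderOf v := orderOf_dvd_of_mem_zpowers hw
    have h2 : orderOf w = 1 := Nat.eq_one_of_dvd_coprimes (hv'.pow_right j) h1 (hj ▸ dvd_rfl)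
    rw [orderOf_eq_one_iff] at h2
    rw [h2]
    exact one_mem _
  refine ⟨u, v, huv, ?_, ho, hvc, hv'⟩
  show (Cz u).index = m
  rw [← Cz_mul_of_center (z := u) hvc, huv]
  exact hz

theorem index_exponent : ∃ b, n = t ^ b :=
  ⟨_, Nat.eq_prime_pow_of_unique_prime_dvd hs.hyp.n_ne_zero fun {d} hd hdn => hs.only d hd hdn⟩

/-- In the centralizer of a type `m` element all `p`-subgroups are abelian, `p ≠ t`. -/
theorem commute_of_pGroup {x : G} (hx : TM m x) {p : ℕ} [hp : Fact p.Prime] (hpt : p ≠ t)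
    {W : Subgroup G} (hW : IsPGroup p W) (hWx : W ≤ Cz x) : ∀ a ∈ W, ∀ b ∈ W, Commute a b := by
  obtain ⟨x', -, hx', hC, r, j, hr, hxo⟩ := hs.hyp.tm_primary hx
  rw [← hC] at hWx
  have hrt := hs.tm_order x' r j hx' hr hxo
  subst hrt
  set C := Cz x'
  obtain ⟨e, he⟩ := hs.index_exponent
  have hpp : Orders.RegPP r C := by
    intro w hw
    rw [← Subgroup.orderOf_coe] at hw
    have e1 : centralizer ({w} : Set C) = (Cz (w : G)).subgroupOf C := by
      ext y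
      rw [mem_subgroupOf, mem_centralizer_singleton_iff, mem_Cz, Subtype.ext_iff]
      rfl
    rw [e1]
    show ∃ k, (Cz (w : G)).relIndex C = r ^ k
    by_cases hwc : (w : G) ∈ center G
    · exact ⟨0, by rw [Cz_eq_top hwc, relIndex_top_left, pow_zero]⟩
    rcases hs.hyp.inf_cases hx' hwc (mem_Cz.1 w.2).symm (by rw [hxo]; exact (hw.pow_right j).symm) with h | ⟨h, hC'⟩
    · exact ⟨0, by rw [← h, relIndex_self, pow_zero]⟩
    · refine ⟨e, ?_⟩
      have h' : (Cz x' ⊓ Cz (w : G)).index = m * n := hC' ▸ h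
      rw [← relIndex_mul_index (inf_le_left : Cz x' ⊓ Cz (w : G) ≤ Cz x'), inf_relIndex_left,
        show (Cz x').index = m from hx', mul_comm] at h'
      rw [← he]
      exact Nat.eq_of_mul_eq_mul_left (Nat.pos_of_ne_zero hs.hyp.m_ne_zero) h'
  obtain ⟨H, hHc, hHr, k, hk⟩ := (Orders.regPP_iff_hasAbComp hr).1 hpp
  obtain ⟨S, hS⟩ := exists_sylow_le (G := C) (q := p) H (by
    rw [hk]
    exact fun h => hpt ((Nat.prime_dvd_prime_iff_eq hp.out hr).1 (hp.out.dvd_of_dvd_pow h)))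
  obtain ⟨Q, hQ⟩ := (hW.comap_of_injective C.subtype C.subtype_injective).exists_le_sylow
  obtain ⟨g, rfl⟩ := MulAction.exists_smul_eq C S Q
  intro a ha b hb
  have ha' := hQ (show (⟨a, hWx ha⟩ : C) ∈ W.comap C.subtype from ha)
  have hb' := hQ (show (⟨b, hWx hb⟩ : C) ∈ W.comap C.subtype from hb)
  rw [Sylow.coe_subgroup_smul] at ha' hb'
  obtain ⟨a₀, ha₀, ea⟩ := ha'
  obtain ⟨b₀, hb₀, eb⟩ := hb'
  have h0 : a₀ * b₀ = b₀ * a₀ :=
    congrArg Subtype.val (hHc.is_comm.comm (⟨a₀, hS ha₀⟩ : H) ⟨b₀, hS hb₀⟩)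
  have h1 : (⟨a, hWx ha⟩ : C) * ⟨b, hWx hb⟩ = ⟨b, hWx hb⟩ * ⟨a, hWx ha⟩ := by
    rw [← ea, ← eb]
    show g * a₀ * g⁻¹ * (g * b₀ * g⁻¹) = g * b₀ * g⁻¹ * (g * a₀ * g⁻¹)
    calc g * a₀ * g⁻¹ * (g * b₀ * g⁻¹) = g * (a₀ * b₀) * g⁻¹ := by group
      _ = g * (b₀ * a₀) * g⁻¹ := by rw [h0]
      _ = _ := by group
  exact congrArg Subtype.val h1

theorem exists_t_elem {z : G} (hz : z ∉ center G) :
    ∃ f ∈ Cz z, f ∉ center G ∧ ∃ i, orderOf f = t ^ i := by
  haveI := Fact.mk hs.prime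
  obtain ⟨x, hx⟩ := hs.hyp.exists_m
  obtain ⟨u, v, -, hu, ho, -, -⟩ := hs.tm_split hx
  obtain ⟨p, hp, hpm⟩ := Nat.exists_prime_and_dvd (by have := hs.hyp.one_lt_m; omega : m ≠ 1)
  haveI := Fact.mk hp
  obtain ⟨a, hau, hac, i, hi⟩ := hs.hyp.exists_p_elem hpm (hs.hyp.tm_notMem hu)
  have hpt : p ≠ t := fun h => hs.not_dvd_m (h ▸ hpm)
  have h1 := (lt_factorization_iff (q := t) (Cz a) (center_le_Cz a)).2
    ⟨u, mem_Cz.2 (mem_Cz.1 hau).symm, hs.hyp.tm_notMem hu, ho⟩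
  refine (lt_factorization_iff (q := t) (Cz z) (center_le_Cz z)).1 ?_
  have h2 := hs.hyp.vc_tn (hs.tn_of_ne hp hpt hi hac) t
  rcases hs.hyp.sizes z hz with h | h
  · have h3 := hs.hyp.vc_tm h t
    have := Nat.zero_le (n.factorization t)
    omega
  · have h3 := hs.hyp.vc_tn h t
    omega

/-- Every type `m n` element has the centralizer of one of order a power of a prime `q ≠ t`. -/
theorem exists_primary_tn {z : G} (hz : TN m n z) :
    ∃ (w : G) (q j : ℕ), q.Prime ∧ q ≠ t ∧ orderOf w = q ^ j ∧ TN m n w ∧ Cz w = Cz z := by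
  obtain ⟨p, hp, hpm⟩ := Nat.exists_prime_and_dvd (by have := hs.hyp.one_lt_m; omega : m ≠ 1)
  haveI := Fact.mk hp
  have hpt : p ≠ t := fun h => hs.not_dvd_m (h ▸ hpm)
  obtain ⟨u, v, hu, hv, huv, hcom, ⟨i, hi⟩, hv'⟩ := exists_split' hs.prime z
  by_cases hvc : v ∈ center G
  · have hCu : Cz u = Cz z := by rw [← huv, Cz_mul_of_center hvc]
    have hun : TN m n u := by show (Cz u).index = m * n; rw [hCu]; exact hz
    obtain ⟨w, hw, hwc, j, hj⟩ := hs.hyp.exists_p_elem hpm (hs.hyp.tn_notMem hun)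
    have hwn := hs.tn_of_ne hp hpt hj hwc
    refine ⟨w, p, j, hp, hpt, hj, hwn, ?_⟩
    have hwu : Commute w u := mem_Cz.1 hw
    have hco := coprime_pow_pow hp hs.prime hpt hj hi
    have hle1 : Cz (w * u) ≤ Cz w := (Cz_inf hwu hco).le.trans inf_le_left
    have hle2 : Cz (w * u) ≤ Cz u := (Cz_inf hwu hco).le.trans inf_le_right
    rw [← hCu, ← hs.hyp.eq_of_le_tn hwn hle1, hs.hyp.eq_of_le_tn hun hle2]
  · obtain ⟨w, hw, hwc, q, j, hq, hj⟩ := exists_primary hvc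
    have hqt : q ≠ t := by
      rintro rfl
      have h1 : orderOf w ∣ orderOf v := orderOf_dvd_of_mem_zpowers hw
      have h2 : orderOf w = 1 := Nat.eq_one_of_dvd_coprimes (hv'.pow_right j) h1 (hj ▸ dvd_rfl)
      rw [orderOf_eq_one_iff] at h2
      exact hwc (h2 ▸ one_mem _)
    have hwn := hs.tn_of_ne hq hqt hj hwc
    exact ⟨w, q, j, hq, hqt, hj, hwn,
      (hs.hyp.eq_of_le_tn hwn (centralizer_le_of_mem ((zpowers_le.2 hv) hw))).symm⟩

/-- Centralizers of type `m n` elements are abelian. -/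
theorem abelian_tn {z : G} (hz : TN m n z) : ∀ a ∈ Cz z, ∀ b ∈ Cz z, Commute a b := by
  obtain ⟨w, q, j, hq, hqt, hj, hw, hC⟩ := hs.exists_primary_tn hz
  rw [← hC]
  set D := Cz w
  haveI := Fact.mk hq
  have hcop : ∀ a ∈ D, ∀ l i : ℕ, l.Prime → l ≠ q → orderOf a = l ^ i → ∀ b ∈ D, Commute a b := by
    intro a ha l i hl hlq hi b hb
    by_cases hac : a ∈ center G
    · exact (Subgroup.mem_center_iff.1 hac b).symm
    have hco := coprime_pow_pow hl hq hlq hi hj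
    have haw : Commute a w := mem_Cz.1 ha
    have hle : D ≤ Cz a := by
      by_cases ham : TM m a
      · exact hs.hyp.Cz_le_of_tn ham hw haw hco
      · have hle1 : Cz (a * w) ≤ Cz a := (Cz_inf haw hco).le.trans inf_le_left
        have hle2 : Cz (a * w) ≤ D := (Cz_inf haw hco).le.trans inf_le_right
        exact (hs.hyp.eq_of_le_tn hw hle2).ge.trans hle1
    exact (mem_Cz.1 (hle hb)).symm
  have hqq : ∀ a ∈ D, ∀ i : ℕ, orderOf a = q ^ i → ∀ b ∈ D, Commute a b := by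
    intro a ha i hi b hb
    obtain ⟨f, hfw, hfc, e, he⟩ := hs.exists_t_elem (hs.hyp.tn_notMem hw)
    have hDf : ∀ c ∈ D, Commute f c := hcop f hfw t e hs.prime (Ne.symm hqt) he
    by_cases hfm : TM m f
    swap
    · have hfn := hs.hyp.tn_of_not_tm hfc hfm
      by_cases hac : a ∈ center G
      · exact (Subgroup.mem_center_iff.1 hac b).symm
      have han := hs.tn_of_ne hq hqt hi hac
      have haf : Commute a f := (hDf a ha).symm
      have hco := coprime_pow_pow hq hs.prime hqt hi he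
      have hle1 : Cz (a * f) ≤ Cz a := (Cz_inf haf hco).le.trans inf_le_left
      have hle2 : Cz (a * f) ≤ Cz f := (Cz_inf haf hco).le.trans inf_le_right
      have hbf : b ∈ Cz f := mem_Cz.2 (hDf b hb).symm
      rw [← hs.hyp.eq_of_le_tn hfn hle2] at hbf
      exact (mem_Cz.1 (hle1 hbf)).symm
    obtain ⟨S, hS⟩ := (IsPGroup.of_card (p := q) (G := zpowers (⟨a, ha⟩ : D)) (n := i)
      (by rw [Nat.card_zpowers, Subgroup.orderOf_mk, hi])).exists_le_sylow
    have haS := hS (mem_zpowers _)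
    set W := (Cz a).subgroupOf D
    have hSW : (S : Subgroup D) ≤ W := by
      intro c hc
      have hcomm := hs.commute_of_pGroup hfm hqt (S.isPGroup'.map D.subtype) (by
        rintro _ ⟨d, -, rfl⟩
        exact mem_Cz.2 (hDf d d.2).symm)
      exact mem_subgroupOf.2 (mem_Cz.2 (hcomm c ⟨c, hc, rfl⟩ a ⟨_, haS, rfl⟩))
    have hW : W = ⊤ := by
      rw [← index_eq_one]
      by_contra hne
      obtain ⟨l, hl, hld⟩ := Nat.exists_prime_and_dvd hne
      haveI := Fact.mk hl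
      rcases eq_or_ne l q with rfl | hlq
      · exact S.not_dvd_index (hld.trans (index_dvd_of_le hSW))
      · obtain ⟨L⟩ : Nonempty (Sylow l D) := inferInstance
        refine L.not_dvd_index (hld.trans (index_dvd_of_le fun c hc => ?_))
        obtain ⟨e, he⟩ := exists_orderOf_sylow L hc
        rw [← Subgroup.orderOf_coe] at he
        exact mem_subgroupOf.2 (mem_Cz.2 (hcop c c.2 l e hl hlq he a ha))
    exact (mem_Cz.1 (mem_subgroupOf.1 (hW ▸ mem_top (⟨b, hb⟩ : D)))).symm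
  intro a ha b hb
  have h : a ∈ Cz b := mem_of_primary _ a fun c hc l i hl hi => by
    have hcD : c ∈ D := (zpowers_le.2 ha) hc
    rcases eq_or_ne l q with rfl | hlq
    · exact mem_Cz.2 (hqq c hcD i hi b hb)
    · exact mem_Cz.2 (hcop c hcD l i hl hlq hi b hb)
  exact mem_Cz.1 h

theorem eq_of_mem_tn {z w : G} (hz : TN m n z) (hw : TN m n w) (hwz : w ∈ Cz z) : Cz w = Cz z :=
  (hs.hyp.eq_of_le_tn hw fun a ha => mem_Cz.2 (hs.abelian_tn hz a ha w hwz)).symm

/-- Two such centralizers sharing a noncentral element of order prime to `t` are equal. -/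
theorem eq_of_common {z z' a : G} (hz : TN m n z) (hz' : TN m n z') {q j : ℕ} (hq : q.Prime)
    (hqt : q ≠ t) (hj : orderOf a = q ^ j) (hac : a ∉ center G) (ha : a ∈ Cz z) (ha' : a ∈ Cz z') :
    Cz z = Cz z' :=
  (hs.eq_of_mem_tn hz (hs.tn_of_ne hq hqt hj hac) ha).symm.trans
    (hs.eq_of_mem_tn hz' (hs.tn_of_ne hq hqt hj hac) ha')

/-- Each such centralizer contains a type `m` element of `t`-power order. -/
theorem exists_tm_mem {z : G} (hz : TN m n z) :
    ∃ x ∈ Cz z, TM m x ∧ ∃ i, orderOf x = t ^ i := by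
  haveI := Fact.mk hs.prime
  obtain ⟨f, hf, hfc, i, hi⟩ := hs.exists_t_elem (hs.hyp.tn_notMem hz)
  by_cases hfm : TM m f
  · exact ⟨f, hf, hfm, i, hi⟩
  obtain ⟨x₀, hx₀⟩ := hs.hyp.exists_m
  obtain ⟨x, v, -, hx, ⟨l, hl⟩, -, -⟩ := hs.tm_split hx₀
  obtain ⟨T, hT⟩ := hs.hyp.sylow_le_of_tm hx (q := t) hs.not_dvd_m
  have hxT := sylow_le_Cz_of_mem T hT hl
  obtain ⟨g, hg⟩ := exists_conj_mem T hi
  refine ⟨g * x * g⁻¹, ?_, hs.hyp.tm_conj hx, l, (orderOf_conj' g x).trans hl⟩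
  rw [← hs.eq_of_mem_tn hz (hs.hyp.tn_of_not_tm hfc hfm) hf, mem_Cz]
  have hgx : f ∈ Cz (g * x * g⁻¹) := by
    rw [show f = g * (g⁻¹ * f * g) * g⁻¹ by group]
    exact mem_Cz_conj.2 (hT hg)
  exact (mem_Cz.1 hgx).symm

end Res

end CfsgLib.ClassSizes.CoprimeRank
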