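/-
Class sizes `1, m, m n`, residual case: only two primes occur.
-/
import Mathlib
import Cfsg.Agent.Lib.ClassSizes.CoprimeRank.Residual
import Cfsg.Agent.Lib.ClassSizes.CoprimeRank.Orbits
import Cfsg.Agent.Lib.Char.Central

set_option autoImplicit false
set_option linter.all false

namespace CfsgLib.ClassSizes.CoprimeRank

open Subgroup CfsgLib.ClassSizes.TwoSizes

variable {G : Type*} [Group G] [Finite G]

theorem lt_of_growth {X K : Subgroup G} (h : X ≤ K) {v : G} (hv : v ∈ K) (hvX : v ∉ X) :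
    2 * Nat.card X ≤ Nat.card K := by
  obtain ⟨e, he⟩ := card_dvd_of_le h
  have hne : Nat.card X ≠ Nat.card K := fun h' => hvX ((eq_of_le_of_card_ge h h'.ge).ge hv)
  rcases e with _ | _ | e
  · exact absurd he (by simpa using (Nat.card_pos (α := K)).ne')
  · exact absurd (by simpa using he.symm) hne
  · rw [he, mul_comm]; exact Nat.mul_le_mul_left _ (by omega)

/-- An element normalising an abelian `q`-part that is not a Sylow subgroup. -/
theorem exists_grow {q : ℕ} [hq : Fact q.Prime] (D : Subgroup G)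
    (hab : ∀ a ∈ D, ∀ b ∈ D, Commute a b)
    (hlt : (Nat.card D).factorization q < (Nat.card G).factorization q) :
    ∃ v : G, v ∉ D ∧ (∃ i, orderOf v = q ^ i) ∧
      ∀ a ∈ D, (∃ i, orderOf a = q ^ i) → v * a * v⁻¹ ∈ D := by
  obtain ⟨V, hVD, hV, hVc⟩ := TwoSizesNormal.exists_qPart D hab q
  obtain ⟨Q, hQ⟩ := (IsPGroup.of_card hVc).exists_le_sylow
  haveI : Group.IsNilpotent (Q : Subgroup G) := Q.isPGroup'.isNilpotent
  have hproper : V.subgroupOf (Q : Subgroup G) < ⊤ := by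
    rw [lt_top_iff_ne_top, Ne, subgroupOf_eq_top]
    intro h
    have h1 := card_dvd_of_le h
    rw [Q.card_eq_multiplicity, hVc, Nat.pow_dvd_pow_iff_le_right hq.out.one_lt] at h1
    omega
  have hgrow := Group.normalizerCondition_of_isNilpotent _ hproper
  rw [← subgroupOf_normalizer_eq hQ] at hgrow
  obtain ⟨u, hu, hu'⟩ := SetLike.exists_of_lt hgrow
  rw [mem_subgroupOf] at hu hu'
  obtain ⟨i, hi⟩ := IsPGroup.iff_orderOf.1 Q.2 u
  rw [← Subgroup.orderOf_coe] at hi
  refine ⟨(u : G), fun h => hu' ((hV _).2 ⟨h, i, hi⟩), ⟨i, hi⟩, fun a ha hao => ?_⟩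
  exact hVD ((mem_normalizer_iff.1 hu a).1 ((hV a).2 ⟨ha, hao⟩))

namespace Res

variable {m n t : ℕ} (hs : Res G m n t)

include hs

theorem mem_normalizer_Cz {z a k : G} (hz : TN m n z) (ha : a ∈ Cz z) (han : TN m n a)
    (hk : k * a * k⁻¹ ∈ Cz z) : k ∈ normalizer (Cz z : Set G) := by
  have e1 : Cz (k * a * k⁻¹) = Cz z := hs.eq_of_mem_tn hz (hs.hyp.tn_conj han) hk
  have e2 : Cz a = Cz z := hs.eq_of_mem_tn hz han ha
  refine mem_normalizer_iff.2 fun b => ?_
  show b ∈ Cz z ↔ k * b * k⁻¹ ∈ Cz z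
  conv_lhs => rw [← e2]
  conv_rhs => rw [← e1]
  exact mem_Cz_conj.symm

theorem vD {z : G} (hz : TN m n z) {l : ℕ} (hl : l.Prime) (hlt : l ≠ t) :
    m.factorization l + (Nat.card (Cz z)).factorization l = (Nat.card G).factorization l := by
  rw [← hs.hyp.vc_tn hz l, Nat.factorization_eq_zero_of_not_dvd (n := n) fun h => hlt (hs.only l hl h)]
  rfl

theorem noncentral_in {z : G} (hz : TN m n z) {l : ℕ} [hl : Fact l.Prime] (hlt : l ≠ t)
    (hnc : ∃ w : G, w ∉ center G ∧ ∃ i, orderOf w = l ^ i) :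
    ∃ a ∈ Cz z, a ∉ center G ∧ ∃ i, orderOf a = l ^ i := by
  by_cases hlm : l ∣ m
  · exact hs.hyp.exists_p_elem hlm (hs.hyp.tn_notMem hz)
  obtain ⟨w, hwc, hi⟩ := hnc
  refine (lt_factorization_iff (q := l) _ (center_le_Cz z)).1 ?_
  have h1 := (lt_factorization_iff (q := l) ⊤ le_top).2 ⟨w, mem_top _, hwc, hi⟩
  rw [Subgroup.card_top] at h1
  have h2 := hs.vD hz hl.out hlt
  rw [Nat.factorization_eq_zero_of_not_dvd hlm] at h2
  omega

theorem exists_normalizing {z : G} (hz : TN m n z) {l : ℕ} [hl : Fact l.Prime] (hlm : l ∣ m) :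
    ∃ v : G, v ∉ Cz z ∧ v ∈ normalizer (Cz z : Set G) ∧ ∃ i, orderOf v = l ^ i := by
  have hlt : l ≠ t := fun h => hs.not_dvd_m (h ▸ hlm)
  obtain ⟨v, hv, hvo, hva⟩ := exists_grow (q := l) (Cz z) (hs.abelian_tn hz) (by
    have := hs.vD hz hl.out hlt
    have := hl.out.factorization_pos_of_dvd hs.hyp.m_ne_zero hlm
    omega)
  obtain ⟨a, ha, hac, j, hj⟩ := hs.hyp.exists_p_elem hlm (hs.hyp.tn_notMem hz)
  exact ⟨v, hv, hs.mem_normalizer_Cz hz ha (hs.tn_of_ne hl.out hlt hj hac) (hva a ha ⟨j, hj⟩), hvo⟩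

open scoped Classical in
/-- The centralizers of the elements of type `m n`. -/
noncomputable def fam (hs : Res G m n t) : Finset (Subgroup G) :=
  (Set.toFinite {X : Subgroup G | ∃ z, TN m n z ∧ X = Cz z}).toFinset

theorem mem_fam {X : Subgroup G} : X ∈ hs.fam ↔ ∃ z, TN m n z ∧ X = Cz z := by
  simp [fam]

/-- The elements of type `m` are few. -/
theorem cover_bound {p q : ℕ} [hp : Fact p.Prime] [hq : Fact q.Prime] (hpm : p ∣ m) (hqt : q ≠ t)
    (hpq : p ≠ q) (hq3 : 6 ≤ p * q) (hnc : ∃ w : G, w ∉ center G ∧ ∃ i, orderOf w = q ^ i) :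
    6 * Nat.card G ≤ 6 * (∑ X ∈ hs.fam, Nat.card X) + Nat.card G := by
  classical
  haveI := Fintype.ofFinite G
  haveI := Fact.mk hs.prime
  have hpt : p ≠ t := fun h => hs.not_dvd_m (h ▸ hpm)
  obtain ⟨T⟩ : Nonempty (Sylow t G) := inferInstance
  set E := (T : Subgroup G) ⊔ center G
  set R : Finset G := (Finset.univ.filter fun a => a ∈ E ∧ TM m a).biUnion
    fun a => CfsgLib.CharIntegral.classFinset a
  have hR : R.card ≤ m * Nat.card E := by
    refine Finset.card_biUnion_le.trans ((Finset.sum_le_card_nsmul _ _ m fun a ha => ?_).trans ?_)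
    · rw [CfsgLib.CharIntegral.card_classFinset]
      exact (Finset.mem_filter.1 ha).2.2.le
    · rw [smul_eq_mul, mul_comm]
      refine Nat.mul_le_mul_left _ ((Finset.card_le_card fun a ha => ?_).trans
        (TwoSizesNormal.card_filter_mem E).le)
      simp only [Finset.mem_filter, Finset.mem_univ, true_and] at ha ⊢
      exact ha.1
  obtain ⟨z₁, hz₁⟩ := hs.hyp.exists_mn
  have hcover : (Finset.univ : Finset G) ⊆
      (hs.fam.biUnion fun X => Finset.univ.filter fun a => a ∈ X) ∪ R := by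
    intro a _
    rw [Finset.mem_union]
    by_cases hac : a ∈ center G
    · exact Or.inl (Finset.mem_biUnion.2 ⟨_, hs.mem_fam.2 ⟨z₁, hz₁, rfl⟩,
        Finset.mem_filter.2 ⟨Finset.mem_univ _, center_le_Cz z₁ hac⟩⟩)
    rcases hs.hyp.sizes a hac with ha | ha
    · right
      obtain ⟨u, v, huv, hu, ⟨i, hi⟩, hvc, -⟩ := hs.tm_split ha
      obtain ⟨g, hg⟩ := exists_conj_mem T hi
      refine Finset.mem_biUnion.2 ⟨g⁻¹ * a * g, Finset.mem_filter.2 ⟨Finset.mem_univ _, ?_, ?_⟩, ?_⟩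
      · rw [← huv, show g⁻¹ * (u * v) * g = g⁻¹ * u * g * (g⁻¹ * v * g) by group]
        refine mul_mem (mem_sup_left hg) (mem_sup_right ?_)
        rwa [Subgroup.mem_center_iff.1 hvc g⁻¹, inv_mul_cancel_right]
      · have := hs.hyp.tm_conj (g := g⁻¹) (show TM m a from ha)
        rwa [inv_inv] at this
      · rw [CfsgLib.CharIntegral.mem_classFinset]
        exact isConj_iff.2 ⟨g, by group⟩
    · exact Or.inl (Finset.mem_biUnion.2 ⟨_, hs.mem_fam.2 ⟨a, ha, rfl⟩,
        Finset.mem_filter.2 ⟨Finset.mem_univ _, self_mem_Cz a⟩⟩)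
  have hG : Nat.card G ≤ (∑ X ∈ hs.fam, Nat.card X) + m * Nat.card E := by
    rw [Nat.card_eq_fintype_card, ← Finset.card_univ]
    refine (Finset.card_le_card hcover).trans ((Finset.card_union_le _ _).trans
      (Nat.add_le_add (Finset.card_biUnion_le.trans (le_of_eq
        (Finset.sum_congr rfl fun X _ => TwoSizesNormal.card_filter_mem X))) hR))
  suffices h6 : 6 * (m * Nat.card E) ≤ Nat.card G by omega
  -- orders
  have hE : Nat.card E * Nat.card ↥(center G ⊓ (T : Subgroup G)) =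
      Nat.card (T : Subgroup G) * Nat.card (center G) := by
    have h := TwoSizesNormal.index_mul_inf (center G) (T : Subgroup G)
    have h1 := (E.map (QuotientGroup.mk' (center G))).index_mul_card
    have h2 := TwoSizesNormal.card_map_mul (center G) E
    rw [inf_eq_left.2 (le_sup_right : center G ≤ E)] at h2
    have h3 := TwoSizesNormal.card_map_mul (center G) (T : Subgroup G)
    have e : E.map (QuotientGroup.mk' (center G)) = (T : Subgroup G).map (QuotientGroup.mk' (center G)) := by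
      rw [Subgroup.map_sup, (Subgroup.map_eq_bot_iff _).2 (QuotientGroup.ker_mk' (center G)).ge,
        sup_bot_eq]
    rw [e] at h2
    rw [← h2, ← h3]; ring
  have hdvd : m * Nat.card E * (p * q) ∣ Nat.card G := by
    refine (Nat.factorization_le_iff_dvd (Nat.mul_ne_zero (Nat.mul_ne_zero hs.hyp.m_ne_zero
      Nat.card_pos.ne') (Nat.mul_ne_zero hp.out.ne_zero hq.out.ne_zero)) Nat.card_pos.ne').1 fun l => ?_
    rw [Nat.factorization_mul (Nat.mul_ne_zero hs.hyp.m_ne_zero Nat.card_pos.ne')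
      (Nat.mul_ne_zero hp.out.ne_zero hq.out.ne_zero), Nat.factorization_mul hs.hyp.m_ne_zero
      Nat.card_pos.ne', Nat.factorization_mul hp.out.ne_zero hq.out.ne_zero, hp.out.factorization,
      hq.out.factorization, Finsupp.add_apply, Finsupp.add_apply, Finsupp.add_apply]
    by_cases hl : l.Prime
    swap
    · rw [Finsupp.single_eq_of_ne (fun h : l = p => hl (h ▸ hp.out)),
        Finsupp.single_eq_of_ne (fun h : l = q => hl (h ▸ hq.out)),
        Nat.factorization_eq_zero_of_not_prime _ hl, Nat.factorization_eq_zero_of_not_prime _ hl]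
      omega
    haveI := Fact.mk hl
    have hcE := congrArg (fun k => k.factorization l) hE
    rw [Nat.factorization_mul Nat.card_pos.ne' Nat.card_pos.ne',
      Nat.factorization_mul Nat.card_pos.ne' Nat.card_pos.ne', Finsupp.add_apply, Finsupp.add_apply] at hcE
    obtain ⟨e, he⟩ := IsPGroup.iff_card.1 T.2
    have hTc := T.card_eq_multiplicity
    by_cases hlt : l = t
    · subst hlt
      rw [Finsupp.single_eq_of_ne (Ne.symm hpt), Finsupp.single_eq_of_ne (Ne.symm hqt),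
        Nat.factorization_eq_zero_of_not_dvd (n := m) hs.not_dvd_m]
      have h1 := (Nat.factorization_le_iff_dvd Nat.card_pos.ne' Nat.card_pos.ne').2
        (card_subgroup_dvd_card E) l
      omega
    have hTl : (Nat.card (T : Subgroup G)).factorization l = 0 := by
      rw [he]
      exact Nat.factorization_eq_zero_of_not_dvd fun h =>
        hlt ((Nat.prime_dvd_prime_iff_eq hl hs.prime).1 (hl.dvd_of_dvd_pow h))
    have hvD := hs.vD hz₁ hl hlt
    have hzD := (Nat.factorization_le_iff_dvd Nat.card_pos.ne' Nat.card_pos.ne').2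
      (card_dvd_of_le (center_le_Cz z₁)) l
    by_cases hlp : l = p
    · subst hlp
      rw [Finsupp.single_eq_same, Finsupp.single_eq_of_ne hpq]
      have h1 := (lt_factorization_iff (q := l) _ (center_le_Cz z₁)).2
        (hs.hyp.exists_p_elem hpm (hs.hyp.tn_notMem hz₁))
      omega
    rw [Finsupp.single_eq_of_ne hlp]
    by_cases hlq : l = q
    · subst hlq
      rw [Finsupp.single_eq_same]
      have h1 := (lt_factorization_iff (q := l) _ (center_le_Cz z₁)).2
        (hs.noncentral_in hz₁ hqt hnc)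
      omega
    rw [Finsupp.single_eq_of_ne hlq]
    omega
  calc 6 * (m * Nat.card E) ≤ p * q * (m * Nat.card E) := Nat.mul_le_mul_right _ hq3
    _ ≤ _ := by rw [mul_comm]; exact Nat.le_of_dvd Nat.card_pos hdvd

theorem sum_bound_two {p q : ℕ} [hp : Fact p.Prime] [hq : Fact q.Prime] (hpm : p ∣ m)
    (hqm : q ∣ m) (hpq : p ≠ q) : q * ∑ X ∈ hs.fam, Nat.card X < 2 * Nat.card G := by
  classical
  have hpt : p ≠ t := fun h => hs.not_dvd_m (h ▸ hpm)
  obtain ⟨W, -, hW, hWc⟩ := TwoSizesNormal.exists_qPart (center G)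
    (fun a ha b _ => (Subgroup.mem_center_iff.1 ha b).symm) p
  have hch : ∀ X : Subgroup G, ∃ S : Subgroup G, (∀ a ∈ X, ∀ b ∈ X, Commute a b) →
      S ≤ X ∧ (∀ a, a ∈ S ↔ a ∈ X ∧ ∃ i : ℕ, orderOf a = p ^ i) ∧
        Nat.card S = p ^ (Nat.card X).factorization p := by
    intro X
    by_cases hab : ∀ a ∈ X, ∀ b ∈ X, Commute a b
    · obtain ⟨S, h⟩ := TwoSizesNormal.exists_qPart X hab p
      exact ⟨S, fun _ => h⟩
    · exact ⟨⊥, fun h => absurd h hab⟩
  choose S hS using hch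
  obtain ⟨z₁, hz₁⟩ := hs.hyp.exists_mn
  have hSs : ∀ {z : G}, TN m n z → Nat.card (S (Cz z)) = p ^ (Nat.card (Cz z₁)).factorization p := by
    intro z hz
    rw [(hS _ (hs.abelian_tn hz)).2.2]
    have h1 := hs.vD hz hp.out hpt
    have h2 := hs.vD hz₁ hp.out hpt
    congr 1
    omega
  have hWS : ∀ {z : G}, TN m n z → W ≤ S (Cz z) := fun {z} hz a ha =>
    ((hS _ (hs.abelian_tn hz)).2.1 a).2 ⟨center_le_Cz z ((hW a).1 ha).1, ((hW a).1 ha).2⟩
  refine family_bound (p := p) W hs.fam S (s := p ^ (Nat.card (Cz z₁)).factorization p)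
    ⟨_, hs.mem_fam.2 ⟨z₁, hz₁, rfl⟩⟩ ?_ ?_ ?_ ?_ ?_ ?_
  · intro X hX
    obtain ⟨z, hz, rfl⟩ := hs.mem_fam.1 hX
    exact IsPGroup.of_card (hS _ (hs.abelian_tn hz)).2.2
  · intro X hX
    obtain ⟨z, hz, rfl⟩ := hs.mem_fam.1 hX
    exact hWS hz
  · intro X hX
    obtain ⟨z, hz, rfl⟩ := hs.mem_fam.1 hX
    exact hSs hz
  · obtain ⟨a, ha, hac, hai⟩ := hs.hyp.exists_p_elem hpm (hs.hyp.tn_notMem hz₁)
    rw [← hSs hz₁]
    exact lt_of_growth (hWS hz₁) (((hS _ (hs.abelian_tn hz₁)).2.1 a).2 ⟨ha, hai⟩)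
      fun h => hac ((hW a).1 h).1
  · intro X hX Y hY hne a ha
    obtain ⟨z, hz, rfl⟩ := hs.mem_fam.1 hX
    obtain ⟨z', hz', rfl⟩ := hs.mem_fam.1 hY
    have ha1 := ((hS _ (hs.abelian_tn hz)).2.1 a).1 ha.1
    have ha2 := ((hS _ (hs.abelian_tn hz')).2.1 a).1 ha.2
    obtain ⟨i, hi⟩ := ha1.2
    refine (hW a).2 ⟨?_, i, hi⟩
    by_contra hac
    exact hne (hs.eq_of_common hz hz' hp.out hpt hi hac ha1.1 ha2.1)
  · intro X hX P hP
    obtain ⟨z, hz, rfl⟩ := hs.mem_fam.1 hX
    obtain ⟨-, hSmem, -⟩ := hS _ (hs.abelian_tn hz)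
    obtain ⟨a, ha, hac, i, hi⟩ := hs.hyp.exists_p_elem hpm (hs.hyp.tn_notMem hz)
    have han := hs.tn_of_ne hp.out hpt hi hac
    have hK : normalizer (S (Cz z) : Set G) ≤ normalizer (Cz z : Set G) := fun k hk =>
      hs.mem_normalizer_Cz hz ha han
        ((hSmem _).1 ((mem_normalizer_iff.1 hk a).1 ((hSmem a).2 ⟨ha, i, hi⟩))).1
    have hback : normalizer (Cz z : Set G) ≤ normalizer (S (Cz z) : Set G) := fun k hk => by
      refine mem_normalizer_iff.2 fun b => ?_
      rw [hSmem, hSmem, orderOf_conj']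
      exact and_congr_left' (mem_normalizer_iff.1 hk b)
    obtain ⟨v, hv, hvN, j, hj⟩ := hs.exists_normalizing hz hqm
    exact grow_of_normal (Ne.symm hpq) (le_normalizer.trans hback) hK (hback hvN) hv hj
      (P : Subgroup G) P.isPGroup' (hSs hz ▸ (hS _ (hs.abelian_tn hz)).2.2)

theorem sum_bound_other {p l : ℕ} [hp : Fact p.Prime] [hl : Fact l.Prime] (hpm : p ∣ m)
    (hlt : l ≠ t) (hlm : ¬ l ∣ m) (hnc : ∃ w : G, w ∉ center G ∧ ∃ i, orderOf w = l ^ i) :
    2 * ∑ X ∈ hs.fam, Nat.card X ≤ Nat.card G := by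
  classical
  haveI := Fintype.ofFinite G
  obtain ⟨z₁, hz₁⟩ := hs.hyp.exists_mn
  set D := Cz z₁
  set N := normalizer (D : Set G)
  obtain ⟨w, hwc, i, hi⟩ := hnc
  have hndvd : ∀ z : G, TN m n z → ¬ l ∣ (Cz z).index := fun z hz h => by
    rw [show (Cz z).index = m * n from hz] at h
    rcases (hl.out.dvd_mul).1 h with h | h
    · exact hlm h
    · exact hlt (hs.only l hl.out h)
  haveI := Fintype.ofFinite (G ⧸ N)
  have hsub : hs.fam ⊆ (Finset.univ : Finset (G ⧸ N)).image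
      fun c => D.map (MulAut.conj c.out).toMonoidHom := by
    intro X hX
    obtain ⟨z, hz, rfl⟩ := hs.mem_fam.1 hX
    obtain ⟨L, hL⟩ := exists_sylow_le (q := l) (Cz z₁) (hndvd z₁ hz₁)
    obtain ⟨L', hL'⟩ := exists_sylow_le (q := l) (Cz z) (hndvd z hz)
    obtain ⟨g, rfl⟩ := MulAction.exists_smul_eq G L L'
    obtain ⟨h, hh'⟩ := exists_conj_mem L hi
    have hw' : h⁻¹ * w * h ∉ center G := fun hc =>
      hwc ((conj_center_iff (g := h⁻¹) (x := w)).1 (by rwa [inv_inv]))
    have ho : orderOf (h⁻¹ * w * h) = l ^ i := by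
      have := orderOf_conj' h⁻¹ w
      rw [inv_inv] at this
      rw [this, hi]
    have hn := hs.tn_of_ne hl.out hlt ho hw'
    have e1 : Cz (h⁻¹ * w * h) = D := hs.eq_of_mem_tn hz₁ hn (hL hh')
    have e2 : Cz (g * (h⁻¹ * w * h) * g⁻¹) = Cz z := hs.eq_of_mem_tn hz (hs.hyp.tn_conj hn)
      (hL' (by rw [Sylow.coe_subgroup_smul]; exact ⟨_, hh', rfl⟩))
    refine Finset.mem_image.2 ⟨QuotientGroup.mk g, Finset.mem_univ _, ?_⟩
    set c : G ⧸ N := QuotientGroup.mk g
    have hk : g⁻¹ * c.out ∈ N := by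
      have := QuotientGroup.eq.1 (QuotientGroup.out_eq' c)
      rw [show g⁻¹ * c.out = (c.out⁻¹ * g)⁻¹ by group]
      exact inv_mem this
    rw [← e2, show Cz (g * (h⁻¹ * w * h) * g⁻¹) = (Cz (h⁻¹ * w * h)).map (MulAut.conj g).toMonoidHom
      from TwoSizesNormal.centralizer_conj g _]
    ext a
    rw [mem_map_equiv, mem_map_equiv, MulAut.conj_symm_apply, MulAut.conj_symm_apply]
    show _ ↔ g⁻¹ * a * g ∈ Cz (h⁻¹ * w * h)
    rw [e1]
    have := mem_normalizer_iff.1 hk (c.out⁻¹ * a * c.out)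
    rw [show g⁻¹ * c.out * (c.out⁻¹ * a * c.out) * (g⁻¹ * c.out)⁻¹ = g⁻¹ * a * g by group] at this
    exact this
  have hcardX : ∀ X ∈ hs.fam, Nat.card X = Nat.card D := by
    intro X hX
    obtain ⟨z, hz, rfl⟩ := hs.mem_fam.1 hX
    refine Nat.eq_of_mul_eq_mul_left (Nat.pos_of_ne_zero (index_ne_zero_of_finite (H := Cz z))) ?_
    rw [index_mul_card, show (Cz z).index = D.index from
      (show (Cz z).index = m * n from hz).trans (show D.index = m * n from hz₁).symm, index_mul_card]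
  obtain ⟨v, hv, hvN, -⟩ := hs.exists_normalizing hz₁ hpm
  have h2 := lt_of_growth (le_normalizer : D ≤ N) hvN hv
  calc 2 * ∑ X ∈ hs.fam, Nat.card X = hs.fam.card * (2 * Nat.card D) := by
        rw [Finset.sum_congr rfl hcardX, Finset.sum_const, smul_eq_mul]; ring
    _ ≤ N.index * Nat.card N := by
        refine Nat.mul_le_mul ((Finset.card_le_card hsub).trans (Finset.card_image_le.trans ?_)) h2
        rw [index_eq_card, Nat.card_eq_fintype_card, Finset.card_univ]
    _ = _ := index_mul_card N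

/-- Only `t` and one prime dividing `m` occur. -/
theorem two_primes : ∃ p : ℕ, p.Prime ∧ p ≠ t ∧ (∃ a, m = p ^ a) ∧
    ∀ (w : G) (l i : ℕ), l.Prime → l ≠ t → l ≠ p → orderOf w = l ^ i → w ∈ center G := by
  obtain ⟨p, hp, hpm⟩ := Nat.exists_prime_and_dvd (by have := hs.hyp.one_lt_m; omega : m ≠ 1)
  have hpt : p ≠ t := fun h => hs.not_dvd_m (h ▸ hpm)
  have main : ∀ (w : G) (l i : ℕ), l.Prime → l ≠ t → l ≠ p → orderOf w = l ^ i → w ∈ center G := by
    intro w l i hl hlt hlp hi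
    by_contra hwc
    haveI := Fact.mk hp
    haveI := Fact.mk hl
    have hnc : ∃ w : G, w ∉ center G ∧ ∃ i, orderOf w = l ^ i := ⟨w, hwc, i, hi⟩
    have h6 : 6 ≤ p * l := by
      rcases Nat.lt_or_ge 2 p with h | h
      · calc 6 = 3 * 2 := rfl
          _ ≤ _ := Nat.mul_le_mul h hl.two_le
      · have := hp.two_le
        have : 3 ≤ l := by have := hl.two_le; omega
        calc 6 = 2 * 3 := rfl
          _ ≤ _ := Nat.mul_le_mul hp.two_le this
    have hcov := hs.cover_bound hpm hlt (Ne.symm hlp) h6 hnc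
    have hpos : 0 < Nat.card G := Nat.card_pos
    by_cases hlm : l ∣ m
    · rcases Nat.lt_or_ge 2 l with h | h
      · have h1 := hs.sum_bound_two hpm hlm (Ne.symm hlp)
        have : 3 * ∑ X ∈ hs.fam, Nat.card X ≤ l * ∑ X ∈ hs.fam, Nat.card X :=
          Nat.mul_le_mul_right _ h
        omega
      · have h1 := hs.sum_bound_two hlm hpm hlp
        have : 3 ≤ p := by have := hp.two_le; have := hl.two_le; omega
        have : 3 * ∑ X ∈ hs.fam, Nat.card X ≤ p * ∑ X ∈ hs.fam, Nat.card X :=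
          Nat.mul_le_mul_right _ this
        omega
    · have h1 := hs.sum_bound_other hpm hlt hlm hnc
      omega
  refine ⟨p, hp, hpt, ⟨_, Nat.eq_prime_pow_of_unique_prime_dvd hs.hyp.m_ne_zero fun {l} hl hlm => ?_⟩, main⟩
  by_contra hlp
  haveI := Fact.mk hl
  have hlt : l ≠ t := fun h => hs.not_dvd_m (h ▸ hlm)
  obtain ⟨z, hz⟩ := hs.hyp.exists_mn
  obtain ⟨w, -, hwc, i, hi⟩ := hs.hyp.exists_p_elem hlm (hs.hyp.tn_notMem hz)
  exact hwc (main w l i hl hlt hlp hi)

end Res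

end CfsgLib.ClassSizes.CoprimeRank
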