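/-
Class sizes `1, m, m n`, residual case: it does not occur.
-/
import Mathlib
import Cfsg.Agent.Lib.ClassSizes.CoprimeRank.ResidualCount
import Cfsg.Agent.Lib.HallGen.Basic
import Cfsg.Agent.Lib.Components.FStar
import Cfsg.Agent.Lib.Char.Burnside
import Cfsg.Agent.Lib.PGroups.Basic

set_option autoImplicit false
set_option linter.all false

namespace CfsgLib.ClassSizes.CoprimeRank

open Subgroup CfsgLib.ClassSizes.TwoSizes

variable {G : Type*} [Group G] [Finite G]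

/-- A normal noncentral part of a `p`-group contains an element central modulo the centre. -/
theorem exists_central_mod {p : ℕ} [hp : Fact p.Prime] (P Q : Subgroup G) (hP : IsPGroup p P)
    (hQP : Q ≤ P) (hn : P ≤ normalizer (Q : Set G)) (hQ : ¬ Q ≤ center G) :
    ∃ y ∈ Q, y ∉ center G ∧ ∀ v ∈ P, y * v * y⁻¹ * v⁻¹ ∈ center G := by
  let π := QuotientGroup.mk' (center G)
  haveI hN : ((Q.map π).subgroupOf (P.map π)).Normal := by
    refine ⟨fun a ha g => ?_⟩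
    obtain ⟨v, hv, hv'⟩ := g.2
    obtain ⟨b, hb, hb'⟩ := mem_subgroupOf.1 ha
    exact mem_subgroupOf.2 ⟨v * b * v⁻¹, (mem_normalizer_iff.1 (hn hv) b).1 hb,
      by simp only [map_mul, map_inv, hv', hb']; rfl⟩
  have hne : (Q.map π).subgroupOf (P.map π) ≠ ⊥ := by
    obtain ⟨w, hw, hwc⟩ := SetLike.not_le_iff_exists.1 hQ
    intro h
    have : (⟨π w, ⟨w, hQP hw, rfl⟩⟩ : P.map π) ∈ (Q.map π).subgroupOf (P.map π) :=
      mem_subgroupOf.2 ⟨w, hw, rfl⟩
    rw [h, mem_bot, Subtype.ext_iff] at this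
    exact hwc ((QuotientGroup.eq_one_iff w).1 this)
  have h := PGroups.inf_center_ne_bot (hP.map π) hne
  rw [Ne, eq_bot_iff_forall] at h
  push Not at h
  obtain ⟨b, ⟨hbQ, hbc⟩, hb1⟩ := h
  obtain ⟨y, hy, hy'⟩ := mem_subgroupOf.1 hbQ
  refine ⟨y, hy, fun hyc => hb1 (Subtype.ext ?_), fun v hv => ?_⟩
  · rw [← hy']; exact (QuotientGroup.eq_one_iff y).2 hyc
  · refine (QuotientGroup.eq_one_iff _).1 ?_
    show π (y * v * y⁻¹ * v⁻¹) = 1
    have := congrArg Subtype.val (Subgroup.mem_center_iff.1 hbc ⟨π v, ⟨v, hv, rfl⟩⟩)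
    simp only [Subgroup.coe_mul] at this
    rw [map_mul, map_mul, map_mul, map_inv, map_inv, hy', ← this, mul_inv_cancel_right,
      mul_inv_cancel]

/-- Commutator of an element with an element fixing `u`. -/
theorem commute_comm {y u f : G} (h : y * u * y⁻¹ * u⁻¹ ∈ center G) (hf : Commute f u) :
    Commute (y⁻¹ * (f * y * f⁻¹)) u := by
  obtain ⟨z, hz, e⟩ : ∃ z ∈ center G, y * u * y⁻¹ = z * u := ⟨_, h, by group⟩
  have e2 : f * (y * u * y⁻¹) * f⁻¹ = y * u * y⁻¹ := by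
    have hfz : Commute f (z * u) :=
      (show Commute f z from Subgroup.mem_center_iff.1 hz f).mul_right hf
    rw [e, hfz.eq, mul_inv_cancel_right]
  have e3 : y⁻¹ * (f * y * f⁻¹) * u * (y⁻¹ * (f * y * f⁻¹))⁻¹ = u := by
    calc y⁻¹ * (f * y * f⁻¹) * u * (y⁻¹ * (f * y * f⁻¹))⁻¹
        = y⁻¹ * (f * y * (f⁻¹ * u * f) * y⁻¹ * f⁻¹) * y := by group
      _ = y⁻¹ * (f * (y * u * y⁻¹) * f⁻¹) * y := by
          rw [mul_assoc f⁻¹ u f, ← hf.eq, inv_mul_cancel_left]; group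
      _ = u := by rw [e2]; group
  exact mul_inv_eq_iff_eq_mul.1 e3

/-- An element of coprime order fixes what it translates by a fixed element. -/
theorem fix_of_comm {f w c : G} (h : f * w * f⁻¹ = w * c) (hfc : Commute f c)
    (hco : (orderOf c).Coprime (orderOf f)) : Commute f w := by
  have hk : ∀ k : ℕ, f ^ k * w * (f ^ k)⁻¹ = w * c ^ k := by
    intro k
    induction k with
    | zero => simp
    | succ k ih =>
      calc f ^ (k + 1) * w * (f ^ (k + 1))⁻¹ = f * (f ^ k * w * (f ^ k)⁻¹) * f⁻¹ := by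
            rw [pow_succ']; group
        _ = f * w * f⁻¹ * (f * c ^ k * f⁻¹) := by rw [ih]; group
        _ = w * c * c ^ k := by rw [h, (hfc.pow_right k).eq, mul_inv_cancel_right]
        _ = _ := by rw [mul_assoc, ← pow_succ']
  have h1 := hk (orderOf f)
  rw [pow_orderOf_eq_one, one_mul, inv_one, mul_one, eq_comm, mul_eq_left] at h1
  have h2 : orderOf c = 1 := Nat.eq_one_of_dvd_coprimes hco dvd_rfl (orderOf_dvd_of_pow_eq_one h1)
  rw [orderOf_eq_one_iff] at h2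
  rw [h2, mul_one] at h
  exact mul_inv_eq_iff_eq_mul.1 h

namespace Res

variable {m n t : ℕ} (hs : Res G m n t)

include hs

theorem vall {z : G} (hz : z ∉ center G) {l : ℕ} (hl : l.Prime) (hlt : l ≠ t) :
    m.factorization l + (Nat.card (Cz z)).factorization l = (Nat.card G).factorization l := by
  rcases hs.hyp.sizes z hz with h | h
  · exact hs.hyp.vc_tm h l
  · exact hs.vD h hl hlt

theorem card_le {z : G} (hz : z ∉ center G) {z' : G} (hz' : z' ∉ center G) {p : ℕ}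
    [hp : Fact p.Prime] (hpt : p ≠ t) {W : Subgroup G} (hW : IsPGroup p W) (hWz : W ≤ Cz z) :
    Nat.card W ≤ p ^ (Nat.card (Cz z')).factorization p := by
  obtain ⟨j, hj⟩ := IsPGroup.iff_card.1 hW
  have h := card_dvd_of_le hWz
  rw [hj, hp.out.pow_dvd_iff_le_factorization Nat.card_pos.ne'] at h
  have h1 := hs.vall hz hp.out hpt
  have h2 := hs.vall hz' hp.out hpt
  rw [hj]
  exact Nat.pow_le_pow_right hp.out.pos (by omega)

theorem card_inf_sylow {x : G} (hx : TM m x) {p a : ℕ} [hp : Fact p.Prime] (hma : m = p ^ a)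
    (P : Sylow p G) :
    p ^ (Nat.card (Cz x)).factorization p ≤ Nat.card ↥((P : Subgroup G) ⊓ Cz x) := by
  have h1 := hs.hyp.vc_tm hx p
  rw [hma, hp.out.factorization_pow, Finsupp.single_eq_same] at h1
  have hr : (Cz x).relIndex (P : Subgroup G) ≤ p ^ a := by
    have := relIndex_le_of_le_right (H := Cz x) (le_top : (P : Subgroup G) ≤ ⊤)
      (by rw [relIndex_top_right]; exact index_ne_zero_of_finite)
    rw [relIndex_top_right, show (Cz x).index = m from hx, hma] at this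
    exact this
  have e : Nat.card ↥((P : Subgroup G) ⊓ Cz x) * (Cz x).relIndex (P : Subgroup G) =
      p ^ (a + (Nat.card (Cz x)).factorization p) := by
    rw [h1, ← P.card_eq_multiplicity, inf_comm,
      ← Nat.card_congr (subgroupOfEquivOfLe (inf_le_right : Cz x ⊓ (P : Subgroup G) ≤ P)).toEquiv,
      inf_subgroupOf_right, Subgroup.relIndex, card_mul_index]
  refine Nat.le_of_mul_le_mul_right (c := p ^ a) ?_ (pow_pos hp.out.pos a)
  rw [← pow_add, add_comm, ← e]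
  exact Nat.mul_le_mul_left _ hr

theorem exists_p_in {x : G} (hx : TM m x) {p a : ℕ} [hp : Fact p.Prime] (hma : m = p ^ a)
    (hpm : p ∣ m) (P : Sylow p G) : ∃ r ∈ (P : Subgroup G), r ∈ Cz x ∧ r ∉ center G := by
  by_contra hcon
  push Not at hcon
  have h1 := hs.card_inf_sylow hx hma P
  have h2 := (lt_factorization_iff (q := p) _ (center_le_Cz x)).2
    (hs.hyp.exists_p_elem hpm (hs.hyp.tm_notMem hx))
  obtain ⟨j, hj⟩ := IsPGroup.iff_card.1
    (P.isPGroup'.to_le (inf_le_left : (P : Subgroup G) ⊓ Cz x ≤ P))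
  have h3 := card_dvd_of_le (fun r hr => hcon r hr.1 hr.2 : (P : Subgroup G) ⊓ Cz x ≤ center G)
  rw [hj, hp.out.pow_dvd_iff_le_factorization Nat.card_pos.ne'] at h3
  rw [hj, Nat.pow_le_pow_iff_right hp.out.one_lt] at h1
  omega

/-- Two noncentral members of a `p`-part of a type `m` centralizer share it. -/
theorem inf_eq_of_mem {x : G} (hx : TM m x) {p a : ℕ} [hp : Fact p.Prime] (hpt : p ≠ t)
    (hma : m = p ^ a) (P : Sylow p G) {u : G} (hu : u ∈ (P : Subgroup G) ⊓ Cz x)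
    (huc : u ∉ center G) : (P : Subgroup G) ⊓ Cz x = (P : Subgroup G) ⊓ Cz u := by
  have hW := P.isPGroup'.to_le (inf_le_left : (P : Subgroup G) ⊓ Cz x ≤ P)
  have hab := hs.commute_of_pGroup hx hpt hW inf_le_right
  refine eq_of_le_of_card_ge (le_inf inf_le_left fun b hb => mem_Cz.2 (hab b hb u hu)) ?_
  exact (hs.card_le huc (hs.hyp.tm_notMem hx) hpt
    (P.isPGroup'.to_le inf_le_left) inf_le_right).trans (hs.card_inf_sylow hx hma P)

theorem false_of_pCore {p : ℕ} [hp : Fact p.Prime] (hpt : p ≠ t) (hpm : p ∣ m)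
    (hQ : ¬ Cfsg.pCore p G ≤ center G) : False := by
  set Q := Cfsg.pCore p G
  haveI hQn : Q.Normal := HallGen.pCore_normal' p
  have hQp : IsPGroup p Q := HallGen.isPGroup_pCore p
  have hqo : ∀ w ∈ Q, ∃ i, orderOf w = p ^ i := fun w hw => by
    obtain ⟨i, hi⟩ := IsPGroup.iff_orderOf.1 hQp ⟨w, hw⟩
    exact ⟨i, by rwa [Subgroup.orderOf_mk] at hi⟩
  have htn : ∀ w ∈ Q, w ∉ center G → TN m n w := fun w hw hwc =>
    let ⟨i, hi⟩ := hqo w hw
    hs.tn_of_ne hp.out hpt hi hwc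
  have hcQ : ∀ y ∈ Q, ∀ f : G, y⁻¹ * (f * y * f⁻¹) ∈ Q := fun y hy f =>
    mul_mem (inv_mem hy) (hQn.conj_mem y hy f)
  have hco : ∀ c ∈ Q, ∀ f : G, (∃ i, orderOf f = t ^ i) → (orderOf c).Coprime (orderOf f) := by
    intro c hc f ⟨i, hi⟩
    obtain ⟨j, hj⟩ := hqo c hc
    exact coprime_pow_pow hp.out hs.prime hpt hj hi
  obtain ⟨y, hy, hyc, hyQ⟩ := exists_central_mod Q Q hQp le_rfl le_normalizer hQ
  have hQy : ∀ u ∈ Q, u ∈ Cz y := by
    intro u hu
    by_cases huc : u ∈ center G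
    · exact center_le_Cz y huc
    obtain ⟨f, hf, hfc, hfo⟩ := hs.exists_t_elem huc
    have hfu : Commute f u := mem_Cz.1 hf
    have hcu : y⁻¹ * (f * y * f⁻¹) ∈ Cz u := mem_Cz.2 (commute_comm (hyQ u hu) hfu)
    have hfy : Commute f y := fix_of_comm (c := y⁻¹ * (f * y * f⁻¹)) (by group)
      (hs.abelian_tn (htn u hu huc) f hf _ hcu) (hco _ (hcQ y hy f) f hfo)
    have hyf : y ∈ Cz f := mem_Cz.2 hfy.symm
    have huf : u ∈ Cz f := mem_Cz.2 hfu.symm
    by_cases hfm : TM m f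
    · exact mem_Cz.2 (hs.commute_of_pGroup hfm hpt (hQp.to_le (inf_le_left : Q ⊓ Cz f ≤ Q))
        inf_le_right u (mem_inf.2 ⟨hu, huf⟩) y (mem_inf.2 ⟨hy, hyf⟩))
    · exact mem_Cz.2 (hs.abelian_tn (hs.hyp.tn_of_not_tm hfc hfm) u huf y hyf)
  have hD : ∀ w ∈ Q, w ∉ center G → Cz w = Cz y := fun w hw hwc =>
    hs.eq_of_mem_tn (htn y hy hyc) (htn w hw hwc) (hQy w hw)
  obtain ⟨P⟩ : Nonempty (Sylow p G) := inferInstance
  have hQP : Q ≤ (P : Subgroup G) := IsPGroup.le_sylow_of_normal hQp P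
  obtain ⟨y₂, hy₂, hy₂c, hy₂P⟩ := exists_central_mod (P : Subgroup G) Q P.isPGroup' hQP
    (fun v _ => (normalizer_eq_top Q ▸ mem_top v : v ∈ normalizer (Q : Set G))) hQ
  obtain ⟨u, huP, huD⟩ : ∃ u ∈ (P : Subgroup G), u ∉ Cz y₂ := by
    by_contra hcon
    push Not at hcon
    exact P.not_dvd_index ((hpm.trans (hs.hyp.dvd_index hy₂c)).trans (index_dvd_of_le hcon))
  have huc : u ∉ center G := fun h => huD (center_le_Cz y₂ h)
  obtain ⟨f, hf, hfc, hfo⟩ := hs.exists_t_elem huc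
  have hfu : Commute f u := mem_Cz.1 hf
  have hcom := commute_comm (hy₂P u huP) hfu
  have hcc : y₂⁻¹ * (f * y₂ * f⁻¹) ∈ center G := by
    by_contra hc
    refine huD ?_
    rw [hD y₂ hy₂ hy₂c, ← hD _ (hcQ y₂ hy₂ f) hc]
    exact mem_Cz.2 hcom.symm
  have hfy : Commute f y₂ := fix_of_comm (c := y₂⁻¹ * (f * y₂ * f⁻¹)) (by group)
    (Subgroup.mem_center_iff.1 hcc f) (hco _ (hcQ y₂ hy₂ f) f hfo)
  have hab := hs.abelian_tn (htn y₂ hy₂ hy₂c)
  obtain ⟨S, hSD, hS, hSc⟩ := TwoSizesNormal.exists_qPart (Cz y₂) hab p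
  have hnorm : zpowers u ≤ normalizer (S : Set G) := zpowers_le.2 <| mem_normalizer_iff.2 fun b => by
    rw [hS, hS, orderOf_conj']
    refine and_congr_left' ?_
    have h : Cz (u * y₂ * u⁻¹) = Cz y₂ := by
      rw [show u * y₂ * u⁻¹ = y₂ * (y₂ * u * y₂⁻¹ * u⁻¹)⁻¹ by
        have hz := Subgroup.mem_center_iff.1 (inv_mem (hy₂P u huP)) y₂
        rw [hz]; group]
      exact Cz_mul_of_center (inv_mem (hy₂P u huP))
    conv_rhs => rw [← h]
    exact mem_Cz_conj.symm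
  obtain ⟨i, hi⟩ := exists_orderOf_sylow P huP
  have hW : IsPGroup p (zpowers u ⊔ S : Subgroup G) := IsPGroup.to_sup_of_normal_right'
    (IsPGroup.of_card (n := i) (by rw [Nat.card_zpowers, hi])) (IsPGroup.of_card hSc) hnorm
  have hle : zpowers u ⊔ S ≤ Cz f := sup_le (zpowers_le.2 (mem_Cz.2 hfu.symm)) fun b hb =>
    mem_Cz.2 (hab b (hSD hb) f (mem_Cz.2 hfy))
  have h1 := hs.card_le hfc hy₂c hpt hW hle
  rw [← hSc] at h1
  exact huD (hSD ((eq_of_le_of_card_ge le_sup_right h1).ge (mem_sup_left (mem_zpowers u))))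

theorem isSolvable {p : ℕ} (hp : p.Prime)
    (hcen : ∀ (w : G) (l i : ℕ), l.Prime → l ≠ t → l ≠ p → orderOf w = l ^ i → w ∈ center G) :
    Group.IsSolvable G := by
  have hl : ∀ l : ℕ, l.Prime → l ∣ Nat.card (G ⧸ center G) → l = t ∨ l = p := by
    intro l hl hd
    by_contra hcon
    push Not at hcon
    haveI := Fact.mk hl
    obtain ⟨L⟩ : Nonempty (Sylow l G) := inferInstance
    refine L.not_dvd_index ((index_eq_card (center G) ▸ hd).trans (index_dvd_of_le fun w hw => ?_))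
    obtain ⟨i, hi⟩ := exists_orderOf_sylow L hw
    exact hcen w l i hl hcon.1 hcon.2 hi
  set N := Nat.card (G ⧸ center G)
  have hN : N ≠ 0 := Nat.card_pos.ne'
  have hne : N / p ^ N.factorization p ≠ 0 := (Nat.ordCompl_pos p hN).ne'
  obtain ⟨j, hj⟩ : ∃ j, N / p ^ N.factorization p = t ^ j := by
    refine ⟨_, Nat.eq_prime_pow_of_unique_prime_dvd hne fun {d} hd hdn => ?_⟩
    refine (hl d hd (hdn.trans (Nat.ordCompl_dvd N p))).resolve_right ?_
    rintro rfl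
    exact Nat.not_dvd_ordCompl hd hN hdn
  haveI : Group.IsSolvable (G ⧸ center G) := Burnside.isSolvable_of_card_eq hp hs.prime
    (a := N.factorization p) (b := j) (by rw [← hj]; exact (Nat.ordProj_mul_ordCompl_eq_self N p).symm)
  haveI : Group.IsSolvable (center G) := Group.isSolvable_of_comm fun a b =>
    Subtype.ext (Subgroup.mem_center_iff.1 b.2 a)
  exact Group.isSolvable_of_ker_le_range (center G).subtype (QuotientGroup.mk' (center G))
    (by rw [QuotientGroup.ker_mk', range_subtype])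

theorem false_of_pCore_le {p a : ℕ} [hp : Fact p.Prime] (hpt : p ≠ t) (hpm : p ∣ m)
    (hma : m = p ^ a)
    (hcen : ∀ (w : G) (l i : ℕ), l.Prime → l ≠ t → l ≠ p → orderOf w = l ^ i → w ∈ center G)
    (hQ : Cfsg.pCore p G ≤ center G) : False := by
  haveI := Fact.mk hs.prime
  haveI := hs.isSolvable hp.out hcen
  set O := Cfsg.pCore t G
  haveI hOn : O.Normal := HallGen.pCore_normal' t
  set A := O ⊓ centralizer (O : Set G)
  haveI hAn : A.Normal := inferInstance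
  have hAo : ∀ b ∈ A, ∃ i, orderOf b = t ^ i := fun b hb => by
    obtain ⟨i, hi⟩ := IsPGroup.iff_orderOf.1 (HallGen.isPGroup_pCore t) ⟨b, hb.1⟩
    exact ⟨i, by rwa [Subgroup.orderOf_mk] at hi⟩
  have hAab : ∀ b ∈ A, ∀ c ∈ A, Commute b c := fun b hb c hc =>
    (mem_centralizer_iff.1 hc.2 b hb.1)
  -- type `m` elements of `t`-power order
  have hxA : ∀ x : G, TM m x → (∃ i, orderOf x = t ^ i) → x ∈ A := by
    intro x hx ⟨i, hi⟩
    obtain ⟨T, hT⟩ := hs.hyp.sylow_le_of_tm hx (q := t) hs.not_dvd_m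
    have hO : ∀ w ∈ O, Commute w x := fun w hw =>
      mem_Cz.1 (hT (IsPGroup.le_sylow_of_normal (HallGen.isPGroup_pCore t) T hw))
    have hxF : x ∈ Cfsg.fittingSubgroup G := Components.centralizer_fitting_le_of_isSolvable
      (mem_centralizer_iff.2 fun w hw => by
        have hwx : w ∈ Cz x := mem_of_primary _ w fun c hc q j hq hj => by
          have hcF : c ∈ Cfsg.fittingSubgroup G := (zpowers_le.2 hw) hc
          haveI := Fact.mk hq
          have hcq := HallGen.mem_pCore_of_mem_nilpotent_normal HallGen.fittingSubgroup_normal'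
            HallGen.isNilpotent_fittingSubgroup hcF hj
          by_cases hqt : q = t
          · subst hqt; exact mem_Cz.2 (hO c hcq)
          by_cases hqp : q = p
          · subst hqp; exact center_le_Cz x (hQ hcq)
          exact center_le_Cz x (hcen c q j hq hqt hqp hj)
        exact mem_Cz.1 hwx)
    refine mem_inf.2 ⟨HallGen.mem_pCore_of_mem_nilpotent_normal HallGen.fittingSubgroup_normal'
      HallGen.isNilpotent_fittingSubgroup hxF hi, mem_centralizer_iff.2 fun w hw => hO w hw⟩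
  -- noncentral members of `A` have type `m`
  have hAm : ∀ b ∈ A, b ∉ center G → TM m b := by
    intro b hb hbc
    by_contra hm
    have hbn := hs.hyp.tn_of_not_tm hbc hm
    have hAb : A ≤ Cz b := fun c hc => mem_Cz.2 (hAab c hc b hb)
    have heq : Cz b = centralizer (A : Set G) := le_antisymm
      (fun d hd => mem_centralizer_iff.2 fun c hc => hs.abelian_tn hbn c (hAb hc) d hd)
      (fun d hd => mem_Cz.2 (mem_centralizer_iff.1 hd b hb).symm)
    obtain ⟨S, hSD, hS, hSc⟩ := TwoSizesNormal.exists_qPart (Cz b) (hs.abelian_tn hbn) p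
    haveI hnorm : (Cz b).Normal := by rw [heq]; infer_instance
    haveI hSn : S.Normal := ⟨fun c hc g => by
      rw [hS] at hc ⊢
      exact ⟨hnorm.conj_mem c hc.1 g, by rw [orderOf_conj']; exact hc.2⟩⟩
    obtain ⟨w, hw, hwc, hwo⟩ := hs.hyp.exists_p_elem hpm hbc
    have hSQ : S ≤ Cfsg.pCore p G :=
      le_sSup (show S.Normal ∧ IsPGroup p S from ⟨hSn, IsPGroup.of_card hSc⟩)
    exact hwc (hQ (hSQ ((hS w).2 ⟨hw, hwo⟩)))
  obtain ⟨P⟩ : Nonempty (Sylow p G) := inferInstance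
  have hPnc := hs.hyp.not_sylow_le_center (hpm.trans (dvd_mul_right m n)) P
  have hPtn : ∀ v ∈ (P : Subgroup G), v ∉ center G → TN m n v := fun v hv hvc =>
    let ⟨i, hi⟩ := exists_orderOf_sylow P hv
    hs.tn_of_ne hp.out hpt hi hvc
  have hmeet : ∀ v ∈ (P : Subgroup G), v ∉ center G →
      ∃ x ∈ A, x ∉ center G ∧ Commute v x := fun v hv hvc => by
    obtain ⟨x, hx, hxm, hxo⟩ := hs.exists_tm_mem (hPtn v hv hvc)
    exact ⟨x, hxA x hxm hxo, hs.hyp.tm_notMem hxm, (mem_Cz.1 hx).symm⟩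
  obtain ⟨u₀, hu₀, hu₀c, hu₀P⟩ := exists_central_mod (P : Subgroup G) (P : Subgroup G)
    P.isPGroup' le_rfl le_normalizer hPnc
  obtain ⟨i₀, hi₀⟩ := exists_orderOf_sylow P hu₀
  have hshare : ∀ b ∈ A, b ∉ center G → Commute u₀ b →
      (P : Subgroup G) ⊓ Cz b = (P : Subgroup G) ⊓ Cz u₀ := fun b hb hbc h =>
    hs.inf_eq_of_mem (hAm b hb hbc) hpt hma P (mem_inf.2 ⟨hu₀, mem_Cz.2 h⟩) hu₀c
  by_cases htriv : ∀ y ∈ A, Commute u₀ y
  · have hle : (P : Subgroup G) ≤ Cz u₀ := by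
      intro v hv
      by_cases hvc : v ∈ center G
      · exact center_le_Cz u₀ hvc
      obtain ⟨x, hx, hxc, hvx⟩ := hmeet v hv hvc
      exact ((hshare x hx hxc (htriv x hx)).le (mem_inf.2 ⟨hv, mem_Cz.2 hvx⟩)).2
    exact P.not_dvd_index ((hpm.trans (hs.hyp.dvd_index hu₀c)).trans (index_dvd_of_le hle))
  push Not at htriv
  obtain ⟨y, hy, hyu⟩ := htriv
  obtain ⟨x₀, hx₀, hx₀c, hux₀⟩ := hmeet u₀ hu₀ hu₀c
  -- the commutator map of `u₀`
  have key : ∀ y ∈ A, Commute u₀ (u₀ * y * u₀⁻¹ * y⁻¹) → Commute u₀ y := by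
    intro y hy h
    have hb : u₀ * y * u₀⁻¹ * y⁻¹ ∈ A := mul_mem (hAn.conj_mem y hy u₀) (inv_mem hy)
    obtain ⟨j, hj⟩ := hAo _ hb
    refine fix_of_comm (c := u₀ * y * u₀⁻¹ * y⁻¹) ?_ h
      (coprime_pow_pow hs.prime hp.out (Ne.symm hpt) hj hi₀)
    rw [(hAab y hy _ hb).eq]; group
  set b := u₀ * y * u₀⁻¹ * y⁻¹
  have hb : b ∈ A := mul_mem (hAn.conj_mem y hy u₀) (inv_mem hy)
  have hbu : ¬ Commute u₀ b := fun h => hyu (key y hy h)
  have hbc : b ∉ center G := fun h => hbu (Subgroup.mem_center_iff.1 h u₀)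
  have hxbc : x₀ * b ∉ center G := fun h => hbu (by
    have := hux₀.inv_right.mul_right (show Commute u₀ (x₀ * b) from Subgroup.mem_center_iff.1 h u₀)
    rwa [inv_mul_cancel_left] at this)
  obtain ⟨r, hrP, hr, hrc⟩ := hs.exists_p_in (hAm _ (mul_mem hx₀ hb) hxbc) hma hpm P
  -- `r` permutes the image and the kernel
  obtain ⟨z, hz, hz'⟩ : ∃ z ∈ center G, u₀ * r = z * (r * u₀) :=
    ⟨_, hu₀P r hrP, by group⟩
  have hact : ∀ g : G, u₀ * (r * g * r⁻¹) * u₀⁻¹ = r * (u₀ * g * u₀⁻¹) * r⁻¹ := by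
    intro g
    calc u₀ * (r * g * r⁻¹) * u₀⁻¹ = u₀ * r * g * (u₀ * r)⁻¹ := by group
      _ = z * (r * u₀ * g * (r * u₀)⁻¹) * z⁻¹ := by rw [hz']; group
      _ = r * u₀ * g * (r * u₀)⁻¹ := by
          rw [← Subgroup.mem_center_iff.1 hz, mul_inv_cancel_right]
      _ = _ := by group
  have hrA : ∀ {c : G}, c ∈ A → r * c * r⁻¹ ∈ A := fun {c} hc => hAn.conj_mem c hc r
  have hx' : Commute u₀ (r * x₀ * r⁻¹) := by
    have h1 := hact x₀
    rw [hux₀.eq, mul_inv_cancel_right] at h1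
    exact mul_inv_eq_iff_eq_mul.1 h1
  set y' := r * y * r⁻¹
  have hy' : y' ∈ A := hrA hy
  have hb' : r * b * r⁻¹ = u₀ * y' * u₀⁻¹ * y'⁻¹ := by
    show r * (u₀ * y * u₀⁻¹ * y⁻¹) * r⁻¹ = u₀ * (r * y * r⁻¹) * u₀⁻¹ * (r * y * r⁻¹)⁻¹
    rw [hact]; group
  have hfix : r * (x₀ * b) * r⁻¹ = x₀ * b := by
    rw [(mem_Cz.1 hr).eq, mul_inv_cancel_right]
  have hprod : r * b * r⁻¹ = (r * x₀ * r⁻¹)⁻¹ * (x₀ * b) := by
    conv_rhs => rw [← hfix]
    group
  have hdiff : b * (r * b * r⁻¹)⁻¹ = x₀⁻¹ * (r * x₀ * r⁻¹) := by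
    rw [hprod]; group
  have hψ : u₀ * (y * y'⁻¹) * u₀⁻¹ * (y * y'⁻¹)⁻¹ = b * (r * b * r⁻¹)⁻¹ := by
    have h1 : Commute (u₀ * y * u₀⁻¹ * y⁻¹) y := hAab _ hb y hy
    have hc : Commute y ((u₀ * y' * u₀⁻¹ * y'⁻¹)⁻¹) :=
      (hAab y hy _ (inv_mem (mul_mem (hAn.conj_mem y' hy' u₀) (inv_mem hy'))))
    calc u₀ * (y * y'⁻¹) * u₀⁻¹ * (y * y'⁻¹)⁻¹
        = b * (y * (u₀ * y' * u₀⁻¹ * y'⁻¹)⁻¹ * y⁻¹) * (y * (y'⁻¹ * y' * 1) * y⁻¹) := by
          show _ = u₀ * y * u₀⁻¹ * y⁻¹ * _ * _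
          have hc2 : Commute (y'⁻¹) (u₀ * y'⁻¹ * u₀⁻¹) := hAab _ (inv_mem hy') _
            (hAn.conj_mem _ (inv_mem hy') u₀)
          calc u₀ * (y * y'⁻¹) * u₀⁻¹ * (y * y'⁻¹)⁻¹
              = u₀ * y * u₀⁻¹ * (u₀ * y'⁻¹ * u₀⁻¹ * y') * y⁻¹ := by group
            _ = u₀ * y * u₀⁻¹ * (y' * (u₀ * y'⁻¹ * u₀⁻¹)) * y⁻¹ := by
                rw [(hAab y' hy' _ (hAn.conj_mem _ (inv_mem hy') u₀)).eq]
            _ = _ := by group
      _ = _ := by rw [hc.eq, hb']; group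
  have hkey := key _ (mul_mem hy (inv_mem hy'))
    (by rw [hψ, hdiff]; exact hux₀.inv_right.mul_right hx')
  have hbb : r * b * r⁻¹ = b := by
    have h1 : u₀ * (y * y'⁻¹) * u₀⁻¹ * (y * y'⁻¹)⁻¹ = 1 := by
      rw [hkey.eq, mul_inv_cancel_right, mul_inv_cancel]
    rw [hψ, mul_inv_eq_one] at h1
    exact h1.symm
  have hrx : r * x₀ * r⁻¹ = x₀ := by
    have := hdiff
    rw [hbb, mul_inv_cancel, eq_comm, inv_mul_eq_one] at this
    exact this.symm
  have hrS : r ∈ (P : Subgroup G) ⊓ Cz x₀ :=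
    mem_inf.2 ⟨hrP, mem_Cz.2 (mul_inv_eq_iff_eq_mul.1 hrx)⟩
  have hrb : r ∈ (P : Subgroup G) ⊓ Cz b :=
    mem_inf.2 ⟨hrP, mem_Cz.2 (mul_inv_eq_iff_eq_mul.1 hbb)⟩
  have h2 := (hs.inf_eq_of_mem (hAm b hb hbc) hpt hma P hrb hrc).trans
    (hs.inf_eq_of_mem (hAm x₀ hx₀ hx₀c) hpt hma P hrS hrc).symm
  exact hbu (mem_Cz.1 (h2.ge (mem_inf.2 ⟨hu₀, mem_Cz.2 hux₀⟩)).2)

/-- The residual configuration is impossible. -/
theorem false_of_res : False := by
  obtain ⟨p, hp, hpt, ⟨a, hma⟩, hcen⟩ := hs.two_primes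
  haveI := Fact.mk hp
  have hpm : p ∣ m := by
    rw [hma]
    refine dvd_pow_self p fun h => ?_
    have := hs.hyp.one_lt_m
    rw [hma, h, pow_zero] at this
    omega
  by_cases hQ : Cfsg.pCore p G ≤ center G
  · exact hs.false_of_pCore_le hpt hpm hma hcen hQ
  · exact hs.false_of_pCore hpt hpm hQ

end Res

end CfsgLib.ClassSizes.CoprimeRank
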