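/-
Class sizes `1, m, m n` with abelian centralizers of type `m` elements: `m` is a prime power and
the type `m` elements have one centralizer.
-/
import Mathlib
import Cfsg.Agent.Lib.ClassSizes.CoprimeRank.ResidualEnd

set_option autoImplicit false
set_option linter.all false

namespace CfsgLib.ClassSizes.CoprimeRank

open Subgroup CfsgLib.ClassSizes.TwoSizes

variable {G : Type*} [Group G] [Finite G]

/-- All type `m` centralizers are abelian. -/
theorem Hyp.abelian {m n : ℕ} (hh : Hyp G m n) :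
    ∀ z : G, TM m z → ∀ a ∈ Cz z, ∀ b ∈ Cz z, Commute a b :=
  hh.abelian_or_res.resolve_right fun ⟨_, hs⟩ => hs.false_of_res

namespace Hyp

variable {m n : ℕ} (hh : Hyp G m n)

include hh

theorem tm_eq {x z : G} (hx : TM m x) (hz : z ∈ Cz x) (hzc : z ∉ center G) : Cz z = Cz x :=
  (hh.eq_of_le_tm hx hzc fun a ha => mem_Cz.2 (hh.abelian x hx a ha z hz)).symm

theorem tm_of_mem {x z : G} (hx : TM m x) (hz : z ∈ Cz x) (hzc : z ∉ center G) : TM m z :=
  (congrArg Subgroup.index (hh.tm_eq hx hz hzc)).trans hx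

theorem not_commute {x y : G} (hx : TM m x) (hy : TN m n y) (h : Commute y x) : False :=
  hh.not_tm_of_tn hy (hh.tm_of_mem hx (mem_Cz.2 h) (hh.tn_notMem hy))

theorem tm_of_not_dvd {q i : ℕ} [hq : Fact q.Prime] (hqm : ¬ q ∣ m) {w : G}
    (hi : orderOf w = q ^ i) (hwc : w ∉ center G) : TM m w := by
  obtain ⟨x, hx⟩ := hh.exists_m
  obtain ⟨P, hP⟩ := hh.sylow_le_of_tm hx (q := q) hqm
  obtain ⟨g, hg⟩ := exists_conj_mem P hi
  have hc : g⁻¹ * w * g ∉ center G := fun h =>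
    hwc ((conj_center_iff (g := g⁻¹) (x := w)).1 (by rwa [inv_inv]))
  have := hh.tm_conj (g := g) (hh.tm_of_mem hx (hP hg) hc)
  rwa [show g * (g⁻¹ * w * g) * g⁻¹ = w by group] at this

theorem tn_of_commute {y z : G} (hy : TN m n y) (hz : z ∈ Cz y) (hzc : z ∉ center G) : TN m n z :=
  hh.tn_of_not_tm hzc fun h => hh.not_commute h hy (mem_Cz.1 hz).symm

theorem tn_primary {y : G} (hy : TN m n y) :
    ∃ (w : G) (q i : ℕ), q.Prime ∧ q ∣ m ∧ orderOf w = q ^ i ∧ TN m n w ∧ Cz w = Cz y := by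
  obtain ⟨w, hw, hwc, q, i, hq, hi⟩ := exists_primary (hh.tn_notMem hy)
  haveI := Fact.mk hq
  have hwn : TN m n w := hh.tn_of_commute hy ((zpowers_le.2 (self_mem_Cz y)) hw) hwc
  refine ⟨w, q, i, hq, ?_, hi, hwn, (hh.eq_of_le_tn hwn (centralizer_le_of_mem hw)).symm⟩
  by_contra hqm
  exact hh.not_tm_of_tn hwn (hh.tm_of_not_dvd hqm hi hwc)

theorem eq_coprime {a b : G} (ha : TN m n a) (hb : TN m n b) (hab : Commute a b)
    (hco : (orderOf a).Coprime (orderOf b)) : Cz a = Cz b :=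
  (hh.eq_of_le_tn ha ((Cz_inf hab hco).le.trans inf_le_left)).symm.trans
    (hh.eq_of_le_tn hb ((Cz_inf hab hco).le.trans inf_le_right))

theorem eq_of_mem_two (hm : ∀ q : ℕ, q.Prime → ∃ l : ℕ, l.Prime ∧ l ≠ q ∧ l ∣ m) {x z : G}
    (hx : x ∉ center G) (hz : z ∈ Cz x) (hzc : z ∉ center G) : Cz z = Cz x := by
  by_cases h : TM m x
  · exact hh.tm_eq h hz hzc
  have hy := hh.tn_of_not_tm hx h
  obtain ⟨w, q, i, hq, hqm, hi, hw, hC⟩ := hh.tn_primary hy
  rw [← hC] at hz ⊢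
  obtain ⟨l, hl, hlq, hlm⟩ := hm q hq
  haveI := Fact.mk hl
  obtain ⟨a, haw, hac, j, hj⟩ := hh.exists_p_elem hlm (hh.tn_notMem hw)
  have han := hh.tn_of_commute hw haw hac
  have hCa : Cz a = Cz w :=
    hh.eq_coprime han hw (mem_Cz.1 haw) (coprime_pow_pow hl hq hlq hj hi)
  have hprim : ∀ b ∈ Cz w, b ∉ center G → ∀ r k : ℕ, r.Prime → orderOf b = r ^ k → Cz b = Cz w := by
    intro b hb hbc r k hr hk
    have hbn := hh.tn_of_commute hw hb hbc
    by_cases hrq : r = q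
    · subst hrq
      rw [← hCa] at hb ⊢
      exact hh.eq_coprime hbn han (mem_Cz.1 hb) (coprime_pow_pow hr hl (Ne.symm hlq) hk hj)
    · exact hh.eq_coprime hbn hw (mem_Cz.1 hb) (coprime_pow_pow hr hq hrq hk hi)
  have hab : ∀ c ∈ Cz w, ∀ d ∈ Cz w, Commute c d := by
    intro c hc d hd
    have hcd : c ∈ Cz d := mem_of_primary _ c fun b hb r k hr hk => by
      by_cases hbc : b ∈ center G
      · exact center_le_Cz d hbc
      have hbw : b ∈ Cz w := (zpowers_le.2 hc) hb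
      rw [← hprim b hbw hbc r k hr hk] at hd
      exact mem_Cz.2 (mem_Cz.1 hd).symm
    exact mem_Cz.1 hcd
  exact (hh.eq_of_le_tn (hh.tn_of_commute hw hz hzc)
    fun c hc => mem_Cz.2 (hab c hc z hz)).symm

/-- `m` is a prime power. -/
theorem prime_pow : ∃ p a : ℕ, p.Prime ∧ 0 < a ∧ m = p ^ a := by
  classical
  haveI := Fintype.ofFinite G
  obtain ⟨p, hp, hpm⟩ := Nat.exists_prime_and_dvd (by have := hh.one_lt_m; omega : m ≠ 1)
  haveI := Fact.mk hp
  by_cases hone : ∀ d : ℕ, d.Prime → d ∣ m → d = p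
  · refine ⟨p, _, hp, ?_, Nat.eq_prime_pow_of_unique_prime_dvd hh.m_ne_zero fun {d} hd hdm => hone d hd hdm⟩
    exact List.length_pos_of_mem ((Nat.mem_primeFactorsList hh.m_ne_zero).2 ⟨hp, hpm⟩)
  push Not at hone
  obtain ⟨q, hq, hqm, hqp⟩ := hone
  exfalso
  haveI := Fact.mk hq
  have hm : ∀ r : ℕ, r.Prime → ∃ l : ℕ, l.Prime ∧ l ≠ r ∧ l ∣ m := fun r _ => by
    by_cases h : p = r
    · exact ⟨q, hq, h ▸ hqp, hqm⟩
    · exact ⟨p, hp, h, hpm⟩
  have hab : ∀ z : G, z ∉ center G → ∀ a ∈ Cz z, ∀ b ∈ Cz z, Commute a b := by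
    intro z hz a ha b hb
    by_cases hac : a ∈ center G
    · exact (Subgroup.mem_center_iff.1 hac b).symm
    rw [← hh.eq_of_mem_two hm hz ha hac] at hb
    exact (mem_Cz.1 hb).symm
  obtain ⟨W, -, hW, hWc⟩ := TwoSizesNormal.exists_qPart (center G)
    (fun a ha b _ => (Subgroup.mem_center_iff.1 ha b).symm) p
  have hch : ∀ X : Subgroup G, ∃ S : Subgroup G, (∀ a ∈ X, ∀ b ∈ X, Commute a b) →
      S ≤ X ∧ (∀ a, a ∈ S ↔ a ∈ X ∧ ∃ i : ℕ, orderOf a = p ^ i) ∧
        Nat.card S = p ^ (Nat.card X).factorization p := by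
    intro X
    by_cases hX : ∀ a ∈ X, ∀ b ∈ X, Commute a b
    · obtain ⟨S, h⟩ := TwoSizesNormal.exists_qPart X hX p
      exact ⟨S, fun _ => h⟩
    · exact ⟨⊥, fun h => absurd h hX⟩
  choose S hS using hch
  have hvc : ∀ z : G, z ∉ center G → ∀ l : ℕ, l.Prime → l ∣ m →
      m.factorization l + (Nat.card (Cz z)).factorization l = (Nat.card G).factorization l := by
    intro z hz l hl hlm
    rcases hh.sizes z hz with h | h
    · exact hh.vc_tm h l
    · rw [← hh.vc_tn h l, Nat.factorization_eq_zero_of_not_dvd (n := n) fun hd =>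
        hh.not_dvd_m_of_dvd_n hl hd hlm, add_zero]
  obtain ⟨z₁, hz₁⟩ := hh.exists_m
  have hz₁c := hh.tm_notMem hz₁
  set F : Finset (Subgroup G) :=
    (Set.toFinite {X : Subgroup G | ∃ z, z ∉ center G ∧ X = Cz z}).toFinset
  have hF : ∀ {X : Subgroup G}, X ∈ F ↔ ∃ z, z ∉ center G ∧ X = Cz z := by intro X; simp [F]
  have hSs : ∀ z : G, z ∉ center G →
      Nat.card (S (Cz z)) = p ^ (Nat.card (Cz z₁)).factorization p := by
    intro z hz
    rw [(hS _ (hab z hz)).2.2]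
    have h1 := hvc z hz p hp hpm
    have h2 := hvc z₁ hz₁c p hp hpm
    congr 1
    omega
  have hWS : ∀ z : G, z ∉ center G → W ≤ S (Cz z) := fun z hz a ha =>
    ((hS _ (hab z hz)).2.1 a).2 ⟨center_le_Cz z ((hW a).1 ha).1, ((hW a).1 ha).2⟩
  have hbound : q * ∑ X ∈ F, Nat.card X < 2 * Nat.card G := by
    refine family_bound (p := p) W F S (s := p ^ (Nat.card (Cz z₁)).factorization p)
      ⟨_, hF.2 ⟨z₁, hz₁c, rfl⟩⟩ ?_ ?_ ?_ ?_ ?_ ?_
    · intro X hX
      obtain ⟨z, hz, rfl⟩ := hF.1 hX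
      exact IsPGroup.of_card (hS _ (hab z hz)).2.2
    · intro X hX
      obtain ⟨z, hz, rfl⟩ := hF.1 hX
      exact hWS z hz
    · intro X hX
      obtain ⟨z, hz, rfl⟩ := hF.1 hX
      exact hSs z hz
    · obtain ⟨a, ha, hac, hai⟩ := hh.exists_p_elem hpm hz₁c
      rw [← hSs z₁ hz₁c]
      exact lt_of_growth (hWS z₁ hz₁c) (((hS _ (hab z₁ hz₁c)).2.1 a).2 ⟨ha, hai⟩)
        fun h => hac ((hW a).1 h).1
    · intro X hX Y hY hne a ha
      obtain ⟨z, hz, rfl⟩ := hF.1 hX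
      obtain ⟨z', hz', rfl⟩ := hF.1 hY
      have ha1 := ((hS _ (hab z hz)).2.1 a).1 ha.1
      have ha2 := ((hS _ (hab z' hz')).2.1 a).1 ha.2
      refine (hW a).2 ⟨?_, ha1.2⟩
      by_contra hac
      exact hne ((hh.eq_of_mem_two hm hz ha1.1 hac).symm.trans (hh.eq_of_mem_two hm hz' ha2.1 hac))
    · intro X hX P hP
      obtain ⟨z, hz, rfl⟩ := hF.1 hX
      obtain ⟨-, hSmem, hScard⟩ := hS _ (hab z hz)
      have hnorm : ∀ (k a : G), a ∈ Cz z → a ∉ center G → k * a * k⁻¹ ∈ Cz z →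
          k ∈ normalizer (Cz z : Set G) := by
        intro k a ha hac hk
        have e1 := hh.eq_of_mem_two hm hz hk fun h => hac (conj_center_iff.1 h)
        have e2 := hh.eq_of_mem_two hm hz ha hac
        refine mem_normalizer_iff.2 fun b => ?_
        show b ∈ Cz z ↔ k * b * k⁻¹ ∈ Cz z
        conv_lhs => rw [← e2]
        conv_rhs => rw [← e1]
        exact mem_Cz_conj.symm
      obtain ⟨a, ha, hac, hai⟩ := hh.exists_p_elem hpm hz
      have hK : normalizer (S (Cz z) : Set G) ≤ normalizer (Cz z : Set G) := fun k hk =>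
        hnorm k a ha hac ((hSmem _).1 ((mem_normalizer_iff.1 hk a).1 ((hSmem a).2 ⟨ha, hai⟩))).1
      have hback : normalizer (Cz z : Set G) ≤ normalizer (S (Cz z) : Set G) := fun k hk => by
        refine mem_normalizer_iff.2 fun b => ?_
        rw [hSmem, hSmem, orderOf_conj']
        exact and_congr_left' (mem_normalizer_iff.1 hk b)
      obtain ⟨v, hv, ⟨j, hj⟩, hva⟩ := exists_grow (q := q) (Cz z) (hab z hz) (by
        have := hvc z hz q hq hqm
        have := hq.factorization_pos_of_dvd hh.m_ne_zero hqm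
        omega)
      obtain ⟨b, hb, hbc, hbi⟩ := hh.exists_p_elem hqm hz
      exact grow_of_normal hqp (le_normalizer.trans hback) hK
        (hback (hnorm v b hb hbc (hva b hb hbi))) hv hj (P : Subgroup G) P.isPGroup'
        (hSs z hz ▸ hScard)
  have hcover : Nat.card G ≤ ∑ X ∈ F, Nat.card X := by
    rw [Nat.card_eq_fintype_card, ← Finset.card_univ]
    refine (Finset.card_le_card (t := F.biUnion fun X => Finset.univ.filter fun a => a ∈ X)
      fun a _ => ?_).trans (Finset.card_biUnion_le.trans (le_of_eq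
        (Finset.sum_congr rfl fun X _ => TwoSizesNormal.card_filter_mem X)))
    by_cases hac : a ∈ center G
    · exact Finset.mem_biUnion.2 ⟨_, hF.2 ⟨z₁, hz₁c, rfl⟩,
        Finset.mem_filter.2 ⟨Finset.mem_univ _, center_le_Cz z₁ hac⟩⟩
    · exact Finset.mem_biUnion.2 ⟨_, hF.2 ⟨a, hac, rfl⟩,
        Finset.mem_filter.2 ⟨Finset.mem_univ _, self_mem_Cz a⟩⟩
  have h2 : 2 * ∑ X ∈ F, Nat.card X ≤ q * ∑ X ∈ F, Nat.card X := Nat.mul_le_mul_right _ hq.two_le
  omega

theorem exists_mul {p a : ℕ} [hp : Fact p.Prime] (hma : m = p ^ a) {x : G} (hx : TM m x)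
    (P : Sylow p G) (g : G) : ∃ u ∈ (P : Subgroup G), u⁻¹ * g ∈ Cz x := by
  let f : ↥(P : Subgroup G) ⧸ (Cz x).subgroupOf (P : Subgroup G) → G ⧸ Cz x :=
    Quotient.map' (fun u => (u : G)) fun u w h => by
      rw [QuotientGroup.leftRel_apply] at h ⊢
      exact mem_subgroupOf.1 h
  have hinj : Function.Injective f := fun c c' h => by
    induction c using QuotientGroup.induction_on with | H u => ?_
    induction c' using QuotientGroup.induction_on with | H w => ?_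
    rw [QuotientGroup.eq, mem_subgroupOf]
    exact QuotientGroup.eq.1 h
  have hcard : Nat.card (G ⧸ Cz x) ≤
      Nat.card (↥(P : Subgroup G) ⧸ (Cz x).subgroupOf (P : Subgroup G)) := by
    rw [← index_eq_card, ← index_eq_card, show (Cz x).index = m from hx, hma]
    have e := ((Cz x).subgroupOf (P : Subgroup G)).card_mul_index
    obtain ⟨j, hj⟩ := IsPGroup.iff_card.1 (P.isPGroup'.to_le
      (inf_le_right : Cz x ⊓ (P : Subgroup G) ≤ P))
    have hd := card_dvd_of_le (inf_le_left : Cz x ⊓ (P : Subgroup G) ≤ Cz x)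
    rw [hj, hp.out.pow_dvd_iff_le_factorization Nat.card_pos.ne'] at hd
    rw [← inf_subgroupOf_right,
      Nat.card_congr (subgroupOfEquivOfLe (inf_le_right : Cz x ⊓ (P : Subgroup G) ≤ P)).toEquiv, hj,
      P.card_eq_multiplicity, ← hh.vc_tm hx p, hma, hp.out.factorization_pow,
      Finsupp.single_eq_same, inf_subgroupOf_right] at e
    refine Nat.le_of_mul_le_mul_left ?_ (pow_pos hp.out.pos j)
    rw [e, ← pow_add, add_comm a]
    exact Nat.pow_le_pow_right hp.out.pos (by omega)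
  obtain ⟨c, hc⟩ := (hinj.bijective_of_nat_card_le hcard).2 (QuotientGroup.mk g)
  induction c using QuotientGroup.induction_on with | H u => ?_
  exact ⟨u, u.2, QuotientGroup.eq.1 hc⟩

theorem mem_pCore {p a i : ℕ} [hp : Fact p.Prime] (hma : m = p ^ a) {x w : G} (hx : TM m x)
    (hw : w ∈ Cz x) (hi : orderOf w = p ^ i) : w ∈ Cfsg.pCore p G := by
  obtain ⟨P, hP⟩ := (IsPGroup.of_card (p := p) (G := zpowers w) (n := i)
    (by rw [Nat.card_zpowers, hi])).exists_le_sylow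
  refine HallGen.mem_pCore_of_forall_sylow p w fun P' => ?_
  obtain ⟨g, rfl⟩ := MulAction.exists_smul_eq G P P'
  obtain ⟨u, hu, hc⟩ := hh.exists_mul hma hx P g⁻¹
  have hcw : u⁻¹ * g⁻¹ * w * (u⁻¹ * g⁻¹)⁻¹ = w := by
    rw [(hh.abelian x hx _ hc w hw).eq, mul_inv_cancel_right]
  have hkey : g⁻¹ * w * g ∈ (P : Subgroup G) := by
    have e : g⁻¹ * w * g = u * (u⁻¹ * g⁻¹ * w * (u⁻¹ * g⁻¹)⁻¹) * u⁻¹ := by group
    rw [e, hcw]
    exact mul_mem (mul_mem hu (hP (mem_zpowers w))) (inv_mem hu)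
  show w ∈ ((g • P : Sylow p G) : Subgroup G)
  rw [Sylow.coe_subgroup_smul]
  exact ⟨_, hkey, by show g * (g⁻¹ * w * g) * g⁻¹ = w; group⟩

/-- There is only one centralizer of type `m`. -/
theorem exists_single {p a : ℕ} [hp : Fact p.Prime] (hpm : p ∣ m) (hma : m = p ^ a) :
    ∃ y : G, TM m y ∧ ∀ x : G, TM m x → Cz x = Cz y := by
  obtain ⟨x₀, hx₀⟩ := hh.exists_m
  obtain ⟨s₀, hs₀, hs₀c, i₀, hi₀⟩ := hh.exists_p_elem hpm (hh.tm_notMem hx₀)
  have hQ : ¬ Cfsg.pCore p G ≤ center G := fun h => hs₀c (h (hh.mem_pCore hma hx₀ hs₀ hi₀))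
  have hQp : IsPGroup p (Cfsg.pCore p G) := HallGen.isPGroup_pCore p
  obtain ⟨y, hy, hyc, hyQ⟩ := exists_central_mod _ _ hQp le_rfl le_normalizer hQ
  obtain ⟨t, ht, htn⟩ := Nat.exists_prime_and_dvd (by have := hh.one_lt_n; omega : n ≠ 1)
  haveI := Fact.mk ht
  have hpt : p ≠ t := fun h => hh.not_dvd_m_of_dvd_n ht htn (h ▸ hpm)
  have hmem : ∀ x : G, TM m x → y ∈ Cz x := by
    intro x hx
    obtain ⟨T, hT⟩ := hh.sylow_le_of_tm hx (q := t) (hh.not_dvd_m_of_dvd_n ht htn)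
    obtain ⟨f, hfT, hfc⟩ := SetLike.not_le_iff_exists.1
      (hh.not_sylow_le_center (htn.trans (dvd_mul_left n m)) T)
    obtain ⟨j, hj⟩ := exists_orderOf_sylow T hfT
    obtain ⟨s, hs, hsc, i, hi⟩ := hh.exists_p_elem hpm (hh.tm_notMem hx)
    have hc : y⁻¹ * (f * y * f⁻¹) ∈ Cz s := mem_Cz.2
      (commute_comm (hyQ s (hh.mem_pCore hma hx hs hi)) (hh.abelian x hx f (hT hfT) s hs))
    rw [hh.tm_eq hx hs hsc] at hc
    haveI := HallGen.pCore_normal' (G := G) p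
    have hcQ : y⁻¹ * (f * y * f⁻¹) ∈ Cfsg.pCore p G :=
      mul_mem (inv_mem hy) (Subgroup.Normal.conj_mem inferInstance y hy f)
    obtain ⟨k, hk⟩ := IsPGroup.iff_orderOf.1 hQp ⟨_, hcQ⟩
    rw [Subgroup.orderOf_mk] at hk
    have hfy : Commute f y := fix_of_comm (c := y⁻¹ * (f * y * f⁻¹)) (by group)
      (hh.abelian x hx f (hT hfT) _ hc) (coprime_pow_pow hp.out ht hpt hk hj)
    rw [← hh.tm_eq hx (hT hfT) hfc]
    exact mem_Cz.2 hfy.symm
  exact ⟨y, hh.tm_of_mem hx₀ (hmem x₀ hx₀) hyc, fun x hx => (hh.tm_eq hx (hmem x hx) hyc).symm⟩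

end Hyp

end CfsgLib.ClassSizes.CoprimeRank
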