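/-
Class sizes `1, m, m n`: the structure of the group.
-/
import Mathlib
import Cfsg.Agent.Lib.ClassSizes.CoprimeRank.Abelian
import Cfsg.Agent.Lib.Core.UniqueOrderP

set_option autoImplicit false
set_option linter.all false

namespace CfsgLib.ClassSizes.CoprimeRank

open Subgroup CfsgLib.ClassSizes.TwoSizes
open scoped IsMulCommutative

variable {G : Type*} [Group G] [Finite G]

/-- The configuration with a single type `m` centralizer. -/
structure Single (G : Type*) [Group G] (m n p a : ℕ) (C : Subgroup G) : Prop where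
  hyp : Hyp G m n
  prime : p.Prime
  pos : 0 < a
  m_eq : m = p ^ a
  normal : C.Normal
  index_eq : C.index = m
  comm : ∀ x ∈ C, ∀ z ∈ C, Commute x z
  mem_iff : ∀ z : G, z ∈ C ↔ (z ∈ center G ∨ TM m z)
  fix : ∀ c ∈ C, ∀ u : G, u ∉ C → Commute u c → c ∈ center G

theorem Hyp.single {m n : ℕ} (hh : Hyp G m n) :
    ∃ (p a : ℕ) (C : Subgroup G), Single G m n p a C := by
  obtain ⟨p, a, hp, ha, hma⟩ := hh.prime_pow
  haveI := Fact.mk hp
  have hpm : p ∣ m := hma ▸ dvd_pow_self p ha.ne'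
  obtain ⟨y, hy, hall⟩ := hh.exists_single hpm hma
  refine ⟨p, a, Cz y, hh, hp, ha, hma, ⟨fun c hc g => ?_⟩, hy, hh.abelian y hy, fun z => ⟨fun hz => ?_, ?_⟩, ?_⟩
  · have := mem_Cz_conj (g := g).2 hc
    rwa [hall _ (hh.tm_conj hy)] at this
  · by_cases hzc : z ∈ center G
    · exact Or.inl hzc
    · exact Or.inr (hh.tm_of_mem hy hz hzc)
  · rintro (hz | hz)
    · exact center_le_Cz y hz
    · exact hall z hz ▸ self_mem_Cz z
  · intro c hc u hu hcu
    by_contra hcc
    exact hu (hh.tm_eq hy hc hcc ▸ mem_Cz.2 hcu)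

theorem exists_pow_central {p : ℕ} : ∀ (k : ℕ) (y : G), y ∉ center G → y ^ (p ^ k) ∈ center G →
    ∃ z ∈ zpowers y, z ∉ center G ∧ z ^ p ∈ center G := by
  intro k
  induction k with
  | zero => intro y hy h; rw [pow_zero, pow_one] at h; exact absurd h hy
  | succ k ih =>
    intro y hy h
    by_cases h' : y ^ (p ^ k) ∈ center G
    · exact ih y hy h'
    · exact ⟨_, npow_mem_zpowers y _, h', by rwa [← pow_mul, ← pow_succ]⟩

namespace Single

variable {m n p a : ℕ} {C : Subgroup G} (hc : Single G m n p a C)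

include hc

omit [Finite G] in
theorem center_le : center G ≤ C := fun z hz => (hc.mem_iff z).2 (Or.inl hz)

omit [Finite G] in
theorem tn {u : G} (hu : u ∉ C) : TN m n u :=
  hc.hyp.tn_of_not_tm (fun h => hu (hc.center_le h)) fun h => hu ((hc.mem_iff u).2 (Or.inr h))

omit [Finite G] in
theorem dvd : p ∣ m := hc.m_eq ▸ dvd_pow_self p hc.pos.ne'

omit [Finite G] in
theorem exists_noncentral : ∃ x : G, TM m x ∧ Cz x = C ∧ x ∈ C := by
  obtain ⟨x, hx⟩ := hc.hyp.exists_m
  have hxC := (hc.mem_iff x).2 (Or.inr hx)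
  refine ⟨x, hx, ?_, hxC⟩
  ext u
  refine ⟨fun hu => ?_, fun hu => mem_Cz.2 (hc.comm u hu x hxC)⟩
  by_contra huC
  exact hc.hyp.tm_notMem hx (hc.fix x hxC u huC (mem_Cz.1 hu))

theorem exists_mul (P : Sylow p G) [Fact p.Prime] (g : G) :
    ∃ u ∈ (P : Subgroup G), u⁻¹ * g ∈ C := by
  obtain ⟨x, hx, hCx, -⟩ := hc.exists_noncentral
  exact hCx ▸ hc.hyp.exists_mul hc.m_eq hx P g

theorem exists_p_noncentral [Fact p.Prime] :
    ∃ s ∈ C, s ∉ center G ∧ (∃ i, orderOf s = p ^ i) ∧ s ∈ Cfsg.pCore p G := by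
  obtain ⟨x, hx, hCx, -⟩ := hc.exists_noncentral
  obtain ⟨s, hs, hsc, i, hi⟩ := hc.hyp.exists_p_elem hc.dvd (hc.hyp.tm_notMem hx)
  exact ⟨s, hCx ▸ hs, hsc, ⟨i, hi⟩, hc.hyp.mem_pCore hc.m_eq hx hs hi⟩

theorem exists_central_elem [hp : Fact p.Prime] (P : Sylow p G) :
    ∃ y ∈ (P : Subgroup G), y ∈ C ∧ y ∉ center G ∧ y ^ p ∈ center G ∧
      ∀ v ∈ (P : Subgroup G), y * v * y⁻¹ * v⁻¹ ∈ center G := by
  obtain ⟨s, hs, hsc, -, hsQ⟩ := hc.exists_p_noncentral
  haveI := HallGen.pCore_normal' (G := G) p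
  have hsP : s ∈ (P : Subgroup G) :=
    IsPGroup.le_sylow_of_normal (HallGen.isPGroup_pCore p) P hsQ
  haveI := hc.normal
  obtain ⟨y₀, hy₀, hy₀c, hy₀P⟩ := exists_central_mod (P : Subgroup G) ((P : Subgroup G) ⊓ C)
    P.isPGroup' inf_le_left (fun v hv => mem_normalizer_iff.2 fun b => by
      constructor
      · intro hb
        exact mem_inf.2 ⟨mul_mem (mul_mem hv hb.1) (inv_mem hv), hc.normal.conj_mem b hb.2 v⟩
      · intro hb
        have e : b = v⁻¹ * (v * b * v⁻¹) * v⁻¹⁻¹ := by group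
        rw [e]
        exact mem_inf.2 ⟨mul_mem (mul_mem (inv_mem hv) hb.1) (inv_mem (inv_mem hv)),
          hc.normal.conj_mem _ hb.2 v⁻¹⟩)
    (fun h => hsc (h ⟨hsP, hs⟩))
  obtain ⟨i, hi⟩ := exists_orderOf_sylow P hy₀.1
  obtain ⟨y, hy, hyc, hyp⟩ := exists_pow_central (p := p) i y₀ hy₀c
    (by rw [← hi, pow_orderOf_eq_one]; exact one_mem _)
  obtain ⟨k, rfl⟩ := (mem_powers_iff_mem_zpowers.2 hy : y ∈ Submonoid.powers y₀)
  refine ⟨_, pow_mem hy₀.1 k, pow_mem hy₀.2 k, hyc, hyp, fun v hv => ?_⟩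
  rw [comm_pow_left rfl (hy₀P v hv)]
  exact pow_mem (hy₀P v hv) k

/-- The quotient is abelian. -/
theorem mul_comm_mem [hp : Fact p.Prime] (g h : G) : (g * h)⁻¹ * (h * g) ∈ C := by
  obtain ⟨P⟩ : Nonempty (Sylow p G) := inferInstance
  obtain ⟨y, -, hyC, hyc, -, hyP⟩ := hc.exists_central_elem P
  haveI := hc.normal
  obtain ⟨u, hu, hug⟩ := hc.exists_mul P g
  obtain ⟨v, hv, hvh⟩ := hc.exists_mul P h
  have hfix : ∀ u ∈ (P : Subgroup G), ∃ z ∈ center G, u * y * u⁻¹ = z * y := fun u hu =>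
    ⟨(y * u * y⁻¹ * u⁻¹)⁻¹ , inv_mem (hyP u hu), by group⟩
  obtain ⟨z, hz, eu⟩ := hfix u hu
  obtain ⟨w, hw, ev⟩ := hfix v hv
  have e : ∀ {u v z w : G}, z ∈ center G → w ∈ center G → u * y * u⁻¹ = z * y →
      v * y * v⁻¹ = w * y → u * v * y * (u * v)⁻¹ = w * z * y := by
    intro u v z w hz hw eu ev
    calc u * v * y * (u * v)⁻¹ = u * (v * y * v⁻¹) * u⁻¹ := by group
      _ = w * (u * y * u⁻¹) := by
          rw [ev, ← mul_assoc u w y, Subgroup.mem_center_iff.1 hw u]; group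
      _ = _ := by rw [eu, mul_assoc]
  have e1 := e hz hw eu ev
  have e2 := e hw hz ev eu
  rw [Subgroup.mem_center_iff.1 hw z, ← e1] at e2
  have huv : (u * v)⁻¹ * (v * u) ∈ C := by
    by_contra hcon
    refine hyc (hc.fix y hyC _ hcon (mul_inv_eq_iff_eq_mul.1 ?_))
    calc (u * v)⁻¹ * (v * u) * y * ((u * v)⁻¹ * (v * u))⁻¹
        = (u * v)⁻¹ * (v * u * y * (v * u)⁻¹) * (u * v) := by group
      _ = y := by rw [e2]; group
  let π := QuotientGroup.mk' C
  have hg : π g = π u := ((QuotientGroup.eq (s := C)).2 hug).symm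
  have hh : π h = π v := ((QuotientGroup.eq (s := C)).2 hvh).symm
  refine (QuotientGroup.eq (s := C)).1 ?_
  show π (g * h) = π (h * g)
  rw [map_mul, map_mul, hg, hh, ← map_mul, ← map_mul]
  exact (QuotientGroup.eq (s := C)).2 huv

theorem exists_t_noncentral : ∃ w ∈ C, w ∉ center G ∧ (orderOf w).Coprime p := by
  obtain ⟨x, hx, hCx, -⟩ := hc.exists_noncentral
  obtain ⟨t, ht, htn⟩ := Nat.exists_prime_and_dvd (by have := hc.hyp.one_lt_n; omega : n ≠ 1)
  haveI := Fact.mk ht
  obtain ⟨T, hT⟩ := hc.hyp.sylow_le_of_tm hx (q := t) (hc.hyp.not_dvd_m_of_dvd_n ht htn)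
  obtain ⟨f, hfT, hfc⟩ := SetLike.not_le_iff_exists.1
    (hc.hyp.not_sylow_le_center (htn.trans (dvd_mul_left n m)) T)
  obtain ⟨j, hj⟩ := exists_orderOf_sylow T hfT
  refine ⟨f, hCx ▸ hT hfT, hfc, ?_⟩
  rw [hj]
  exact ((Nat.coprime_primes ht hc.prime).2 fun h =>
    hc.hyp.not_dvd_m_of_dvd_n ht htn (h ▸ hc.dvd)).pow_left j

/-- Elements of order `p` modulo `C` generate a cyclic group. -/
theorem exists_pow_mul [hp : Fact p.Prime] {u z : G} (huC : u ∉ C) (hur : u ^ p ∈ C)
    (hzr : z ^ p ∈ C) : ∃ j < p, u ^ j * z ∈ C := by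
  classical
  haveI := hc.normal
  haveI : IsMulCommutative C := ⟨⟨fun x y => Subtype.ext (hc.comm x x.2 y y.2).eq⟩⟩
  obtain ⟨w, hwC, hwc, hwo⟩ := hc.exists_t_noncentral
  by_contra hcon
  push Not at hcon
  let f : G →* MulAut C := MulAut.conjNormal
  have act_coe : ∀ (g : G) (x : C), ((f g x : C) : G) = g * x * g⁻¹ := fun g x =>
    MulAut.conjNormal_apply g x
  have hker : ∀ g ∈ C, f g = 1 := fun g hg => MulEquiv.ext fun x => Subtype.ext (by
    rw [act_coe, (hc.comm g hg x x.2).eq, mul_inv_cancel_right]; rfl)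
  have hcomm : Commute (f z) (f u) := by
    have h1 := hker _ (hc.mul_comm_mem u z)
    rw [map_mul, map_inv, inv_mul_eq_one, map_mul, map_mul] at h1
    exact h1.symm
  have hur' : f u ^ p = 1 := by rw [← map_pow]; exact hker _ hur
  have hzr' : f z ^ p = 1 := by rw [← map_pow]; exact hker _ hzr
  have hnorm : ∀ g : G, g ∉ C → f g ^ p = 1 → ∀ x : C,
      ((∏ i ∈ Finset.range p, (f g ^ i) x : C) : G) ∈ center G := by
    intro g hg hgr x
    have hfixed : f g (∏ i ∈ Finset.range p, (f g ^ i) x) = ∏ i ∈ Finset.range p, (f g ^ i) x := by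
      rw [map_prod]
      simp only [← MulAut.mul_apply, ← pow_succ']
      have e1 := Finset.prod_range_succ' (fun i => (f g ^ i) x) p
      have e2 := Finset.prod_range_succ (fun i => (f g ^ i) x) p
      have e3 : (f g ^ p) x = (f g ^ 0) x := by rw [hgr, pow_zero]
      rw [e2, e3] at e1
      exact mul_right_cancel e1.symm
    refine hc.fix _ (SetLike.coe_mem _) g hg (mul_inv_eq_iff_eq_mul.1 ?_)
    exact (act_coe g _).symm.trans (congrArg Subtype.val hfixed)
  set w' : C := ⟨w, hwC⟩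
  obtain ⟨r, hr⟩ : ∃ r, p = r + 1 := ⟨p - 1, by have := hp.out.pos; omega⟩
  have houter : ∀ j, j < p → z * u ^ j ∉ C := fun j hj hmem =>
    hcon j hj (by
      have h1 := hc.normal.conj_mem _ hmem (u ^ j)
      rwa [← mul_assoc, mul_inv_cancel_right] at h1)
  have hbig : ((∏ j ∈ Finset.range p, ∏ i ∈ Finset.range p, (f (z * u ^ j) ^ i) w' : C) : G)
      ∈ center G := by
    change _ ∈ (center G).subgroupOf C
    refine prod_mem fun j hj => hnorm _ (houter j (Finset.mem_range.1 hj)) ?_ w'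
    rw [map_mul, map_pow, (hcomm.pow_right j).mul_pow, hzr', one_mul, ← pow_mul, mul_comm, pow_mul,
      hur', one_pow]
  have hrow : ∀ i ∈ Finset.range r,
      ((∏ j ∈ Finset.range p, (f (z * u ^ j) ^ (i + 1)) w' : C) : G) ∈ center G := by
    intro i hi
    rw [Finset.mem_range] at hi
    have hcop : (i + 1).Coprime p := ((hp.out.coprime_iff_not_dvd).2
      (Nat.not_dvd_of_pos_of_lt (Nat.succ_pos i) (by omega))).symm
    have hui : u ^ (i + 1) ∉ C := by
      intro hmem
      obtain ⟨b, d, hbd⟩ := Nat.Coprime.isCoprime hcop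
      apply huC
      have e : u = (u ^ (i + 1)) ^ b * (u ^ p) ^ d := by
        rw [← zpow_natCast u (i + 1), ← zpow_natCast u p, ← zpow_mul, ← zpow_mul, ← zpow_add,
          mul_comm ((i + 1 : ℕ) : ℤ), mul_comm (p : ℤ), hbd, zpow_one]
      rw [e]
      exact mul_mem (zpow_mem hmem b) (zpow_mem hur d)
    have hsum : ∏ j ∈ Finset.range p, (f (z * u ^ j) ^ (i + 1)) w' =
        (f z ^ (i + 1)) (∏ j ∈ Finset.range p, (f (u ^ (i + 1)) ^ j) w') := by
      rw [map_prod]
      refine Finset.prod_congr rfl fun j _ => ?_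
      rw [← MulAut.mul_apply]
      congr 1
      rw [map_mul, map_pow, map_pow, (hcomm.pow_right j).mul_pow, ← pow_mul, ← pow_mul, mul_comm j]
    rw [hsum]
    have hcn := hnorm (u ^ (i + 1)) hui
      (by rw [map_pow, ← pow_mul, mul_comm, pow_mul, hur', one_pow]) w'
    rw [← map_pow, act_coe, Subgroup.mem_center_iff.1 hcn, mul_inv_cancel_right]
    exact hcn
  rw [Finset.prod_comm, hr, Finset.prod_range_succ'] at hbig
  simp only [← hr, pow_zero, MulAut.one_apply, Finset.prod_const, Finset.card_range] at hbig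
  have hrest : ((∏ i ∈ Finset.range r, ∏ j ∈ Finset.range p,
      (f (z * u ^ j) ^ (i + 1)) w' : C) : G) ∈ center G := by
    change _ ∈ (center G).subgroupOf C
    exact prod_mem hrow
  rw [Subgroup.coe_mul] at hbig
  have hwp : w ^ p ∈ center G := by
    have h := mul_mem (inv_mem hrest) hbig
    rwa [inv_mul_cancel_left, SubgroupClass.coe_pow] at h
  obtain ⟨i, hi⟩ := exists_pow_eq_self_of_coprime hwo.symm
  exact hwc (hi ▸ pow_mem hwp i)

theorem isPGroup_quotient [Fact p.Prime] [C.Normal] : IsPGroup p (G ⧸ C) :=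
  IsPGroup.of_card (n := a) (by rw [← index_eq_card, hc.index_eq, hc.m_eq])

theorem isCyclic_quotient [hp : Fact p.Prime] [C.Normal] : IsCyclic (G ⧸ C) := by
  have hcomm : ∀ x y : G ⧸ C, x * y = y * x := by
    intro x y
    induction x using QuotientGroup.induction_on with | H g => ?_
    induction y using QuotientGroup.induction_on with | H h => ?_
    exact (QuotientGroup.eq (s := C)).2 (hc.mul_comm_mem g h)
  haveI : IsMulCommutative (⊤ : Subgroup (G ⧸ C)) := ⟨⟨fun x y => Subtype.ext (hcomm x y)⟩⟩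
  have huniq : ∀ H K : Subgroup (G ⧸ C), Nat.card H = p → Nat.card K = p → H = K := by
    intro H K hH hK
    have key : ∀ H K : Subgroup (G ⧸ C), Nat.card H = p → Nat.card K = p → K ≤ H := by
      intro H K hH hK k hk
      obtain ⟨⟨x, hx⟩, hx1⟩ := (Subgroup.ne_bot_iff_exists_ne_one (H := H)).1 fun h => by
        rw [h, Subgroup.card_bot] at hH
        exact hp.out.one_lt.ne hH
      have hx1' : x ≠ 1 := fun h => hx1 (Subtype.ext h)
      induction x using QuotientGroup.induction_on with | H u => ?_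
      induction k using QuotientGroup.induction_on with | H z => ?_
      have hpow : ∀ (L : Subgroup (G ⧸ C)), Nat.card L = p → ∀ g : G,
          (QuotientGroup.mk g : G ⧸ C) ∈ L → g ^ p ∈ C := by
        intro L hL g hg
        refine (QuotientGroup.eq_one_iff _).1 ?_
        have := congrArg Subtype.val (pow_card_eq_one' (G := L) (x := ⟨_, hg⟩))
        rw [hL] at this
        exact this
      obtain ⟨j, -, hj⟩ := hc.exists_pow_mul (u := u) (z := z)
        (fun h => hx1' ((QuotientGroup.eq_one_iff u).2 h)) (hpow H hH u hx) (hpow K hK z hk)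
      have e : (QuotientGroup.mk z : G ⧸ C) = ((QuotientGroup.mk u : G ⧸ C) ^ j)⁻¹ := by
        refine eq_inv_of_mul_eq_one_right ?_
        exact (QuotientGroup.eq_one_iff _).2 hj
      rw [e]
      exact inv_mem (pow_mem hx j)
    exact le_antisymm (key K H hK hH) (key H K hH hK)
  have := Core.UniqueOrderP.isCyclic_of_unique (hc.isPGroup_quotient) huniq ⊤
  exact isCyclic_of_surjective _ (Subgroup.topEquiv (G := G ⧸ C)).surjective

theorem inf_Cz {u : G} (hu : u ∉ C) : C ⊓ Cz u = center G :=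
  le_antisymm (fun c hcm => hc.fix c hcm.1 u hu (mem_Cz.1 hcm.2).symm)
    (le_inf hc.center_le (center_le_Cz u))

theorem card_Cz_eq {u v : G} (hu : u ∉ C) (hv : v ∉ C) : Nat.card (Cz u) = Nat.card (Cz v) := by
  refine Nat.eq_of_mul_eq_mul_left (Nat.pos_of_ne_zero (index_ne_zero_of_finite (H := Cz u))) ?_
  conv_rhs => rw [show (Cz u).index = m * n from hc.tn hu, ← show (Cz v).index = m * n from hc.tn hv]
  rw [index_mul_card, index_mul_card]

/-- A generator of the quotient, with the resulting orders. -/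
theorem exists_gen [hp : Fact p.Prime] (P : Sylow p G) [C.Normal] :
    ∃ v ∈ (P : Subgroup G), v ∉ C ∧ (∀ g : G, ∃ i : ℕ, (v ^ i)⁻¹ * g ∈ C) ∧
      (∀ u : G, u ∉ C → ∃ r ∈ Cz u, v⁻¹ * r ∈ C) ∧
      Nat.card C = n * p ^ a * Nat.card (center G) := by
  haveI := hc.isCyclic_quotient
  obtain ⟨x, hx⟩ := IsCyclic.exists_generator (α := G ⧸ C)
  induction x using QuotientGroup.induction_on with | H g₀ => ?_
  obtain ⟨v, hv, hvg⟩ := hc.exists_mul P g₀
  have hgen : ∀ y : G ⧸ C, y ∈ zpowers (QuotientGroup.mk v : G ⧸ C) := by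
    rw [(QuotientGroup.eq (s := C)).2 hvg]; exact hx
  have hvC : v ∉ C := by
    intro h
    have h1 : (QuotientGroup.mk v : G ⧸ C) = 1 := (QuotientGroup.eq_one_iff v).2 h
    have h2 : Nat.card (G ⧸ C) = 1 := by
      rw [Nat.card_eq_one_iff_unique]
      refine ⟨⟨fun y z => ?_⟩, ⟨1⟩⟩
      have hy := hgen y
      have hz := hgen z
      rw [h1, zpowers_one_eq_bot, mem_bot] at hy hz
      rw [hy, hz]
    rw [← index_eq_card, hc.index_eq] at h2
    exact hc.hyp.one_lt_m.ne' h2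
  let π := QuotientGroup.mk' C
  have hcard : ∀ u : G, u ∉ C →
      Nat.card ((Cz u).map π) * Nat.card (center G) = Nat.card (Cz u) := by
    intro u hu
    rw [← TwoSizesNormal.card_map_mul C (Cz u), hc.inf_Cz hu]
  have htop : (Cz v).map π = ⊤ := top_le_iff.1 fun y _ =>
    (zpowers_le.2 (mem_map_of_mem π (self_mem_Cz v))) (hgen y)
  refine ⟨v, hv, hvC, fun g => ?_, fun u hu => ?_, ?_⟩
  · obtain ⟨i, hi⟩ := (mem_powers_iff_mem_zpowers.2 (hgen (QuotientGroup.mk g)) :
      (QuotientGroup.mk g : G ⧸ C) ∈ Submonoid.powers _)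
    exact ⟨i, (QuotientGroup.eq (s := C)).1 hi⟩
  · have h : (Cz u).map π = ⊤ := by
      refine eq_top_of_card_eq _ ?_
      have h1 := hcard u hu
      rw [hc.card_Cz_eq hu hvC, ← hcard v hvC, htop, Subgroup.card_top] at h1
      exact Nat.eq_of_mul_eq_mul_right Nat.card_pos h1
    obtain ⟨r, hr, hr'⟩ : π v ∈ (Cz u).map π := h ▸ mem_top _
    exact ⟨r, hr, (QuotientGroup.eq (s := C)).1 hr'.symm⟩
  · have h1 := hcard v hvC
    rw [htop, Subgroup.card_top, ← index_eq_card, hc.index_eq] at h1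
    refine Nat.eq_of_mul_eq_mul_left (Nat.pos_of_ne_zero hc.hyp.m_ne_zero) ?_
    calc m * Nat.card C = Nat.card G := by rw [← hc.index_eq, index_mul_card]
      _ = m * n * Nat.card (Cz v) := by
          rw [← show (Cz v).index = m * n from hc.tn hvC, index_mul_card]
      _ = _ := by rw [← h1, hc.m_eq]; ring

theorem exponent_one : a = 1 := by
  classical
  haveI := Fact.mk hc.prime
  haveI := hc.normal
  obtain ⟨P⟩ : Nonempty (Sylow p G) := inferInstance
  obtain ⟨v, hv, hvC, hgen, hrep, -⟩ := hc.exists_gen P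
  obtain ⟨y, -, hyC, hyc, hyp, hyP⟩ := hc.exists_central_elem P
  suffices hvp : v ^ p ∈ C by
    have h1 : Nat.card (zpowers (QuotientGroup.mk v : G ⧸ C)) = p ^ a := by
      rw [← hc.m_eq, ← hc.index_eq, index_eq_card, ← Subgroup.card_top (G := G ⧸ C)]
      refine congrArg (fun H : Subgroup (G ⧸ C) => Nat.card H) (eq_top_iff.2 fun x _ => ?_)
      induction x using QuotientGroup.induction_on with | H g => ?_
      obtain ⟨i, hi⟩ := hgen g
      rw [← (QuotientGroup.eq (s := C)).2 hi]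
      exact npow_mem_zpowers _ i
    rw [Nat.card_zpowers] at h1
    have h2 : p ^ a ∣ p ^ 1 := by
      rw [pow_one, ← h1]
      exact orderOf_dvd_of_pow_eq_one ((QuotientGroup.eq_one_iff (v ^ p)).2 hvp)
    have := (Nat.pow_dvd_pow_iff_le_right hc.prime.one_lt).1 h2
    have := hc.pos
    omega
  by_contra hvp
  let π := QuotientGroup.mk' (center G)
  set S : Set (G ⧸ center G) := π '' (C : Set G)
  let F : G ⧸ center G → G ⧸ center G := fun x => (π v ^ p)⁻¹ * (π v * x) ^ p
  have hsurj : S ⊆ F '' S := by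
    rintro _ ⟨c, hcC, rfl⟩
    have huC : v ^ p * c ∉ C := fun h => hvp (by
      have := mul_mem h (inv_mem (show c ∈ C from hcC)); rwa [mul_inv_cancel_right] at this)
    obtain ⟨r, hr, hrv⟩ := hrep _ huC
    refine ⟨π (v⁻¹ * r), ⟨_, hrv, rfl⟩, ?_⟩
    have hd : (v ^ p * c)⁻¹ * r ^ p ∈ center G := by
      refine hc.fix _ ?_ _ huC ((Commute.refl _).inv_right.mul_right
        ((mem_Cz.1 hr).symm.pow_right p))
      refine (QuotientGroup.eq (s := C)).1 ?_
      show QuotientGroup.mk' C (v ^ p * c) = QuotientGroup.mk' C (r ^ p)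
      rw [map_mul, map_pow, map_pow, show QuotientGroup.mk' C c = 1 from
        (QuotientGroup.eq_one_iff c).2 hcC, mul_one,
        show QuotientGroup.mk' C v = QuotientGroup.mk' C r from (QuotientGroup.eq (s := C)).2 hrv]
    show (π v ^ p)⁻¹ * (π v * π (v⁻¹ * r)) ^ p = π c
    rw [← map_mul, mul_inv_cancel_left, ← map_pow π r, ← show π (v ^ p * c) = π (r ^ p) from
      (QuotientGroup.eq (s := center G)).2 hd, map_mul, map_pow, inv_mul_cancel_left]
  have hinj : Set.InjOn F S := Set.injOn_of_ncard_image_eq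
    (le_antisymm (Set.ncard_image_le (Set.toFinite S)) (Set.ncard_le_ncard hsurj (Set.toFinite _)))
    (Set.toFinite S)
  have hcom : Commute (π v) (π y) := by
    have h := (QuotientGroup.eq_one_iff (N := center G) _).2 (hyP v hv)
    change π (y * v * y⁻¹ * v⁻¹) = 1 at h
    rw [map_mul, map_mul, map_mul, map_inv, map_inv, mul_inv_eq_one, mul_inv_eq_iff_eq_mul] at h
    exact h.symm
  have hy1 : π y ^ p = 1 := by rw [← map_pow]; exact (QuotientGroup.eq_one_iff _).2 hyp
  have h := hinj ⟨y, hyC, rfl⟩ ⟨1, one_mem C, rfl⟩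
    (show F (π y) = F (π 1) by
      show (π v ^ p)⁻¹ * (π v * π y) ^ p = (π v ^ p)⁻¹ * (π v * π 1) ^ p
      rw [hcom.mul_pow, hy1, map_one, mul_one, mul_one])
  rw [map_one] at h
  exact hyc ((QuotientGroup.eq_one_iff y).1 h)

end Single

end CfsgLib.ClassSizes.CoprimeRank
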