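/-
Class sizes `1, m, m n`: conclusions.
-/
import Mathlib
import Cfsg.Agent.Lib.ClassSizes.CoprimeRank.Structure

set_option autoImplicit false
set_option linter.all false

namespace CfsgLib.ClassSizes.CoprimeRank

open Subgroup CfsgLib.ClassSizes.TwoSizes

variable {G : Type*} [Group G] [Finite G]

namespace Single

variable {m n p a : ℕ} {C : Subgroup G} (hc : Single G m n p a C)

include hc

theorem m_prime : m = p := by rw [hc.m_eq, hc.exponent_one, pow_one]

theorem not_dvd_n : ¬ p ∣ n := fun h => hc.hyp.not_dvd_m_of_dvd_n hc.prime h hc.dvd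

/-- The normal `p`-complement and the congruence. -/
theorem complement : ∃ K : Subgroup G, K.Normal ∧ (Nat.card K).Coprime p ∧
    (∃ k : ℕ, K.index = p ^ k) ∧ p ∣ n - 1 := by
  classical
  haveI hp := Fact.mk hc.prime
  haveI := hc.normal
  obtain ⟨P⟩ : Nonempty (Sylow p G) := inferInstance
  obtain ⟨v, hv, hvC, -, -, hcard⟩ := hc.exists_gen P
  rw [hc.exponent_one, pow_one] at hcard
  let K : Subgroup G :=
    { carrier := {c | c ∈ C ∧ (orderOf c).Coprime p}
      one_mem' := ⟨one_mem C, by rw [orderOf_one]; exact Nat.coprime_one_left p⟩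
      mul_mem' := by
        intro x z hx hz
        exact ⟨mul_mem hx.1 hz.1, Nat.Coprime.of_dvd_left
          ((show Commute x z from hc.comm x hx.1 z hz.1).orderOf_mul_dvd_mul_orderOf) (hx.2.mul_left hz.2)⟩
      inv_mem' := by
        intro x hx
        exact ⟨inv_mem hx.1, by rw [orderOf_inv]; exact hx.2⟩ }
  have hK : ∀ x, x ∈ K ↔ x ∈ C ∧ (orderOf x).Coprime p := fun x => Iff.rfl
  haveI hKn : K.Normal := ⟨fun x hx g => ⟨hc.normal.conj_mem x hx.1 g, by
    rw [orderOf_conj']; exact hx.2⟩⟩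
  have hKco : (Nat.card K).Coprime p := by
    refine ((hp.out.coprime_iff_not_dvd).2 fun h => ?_).symm
    obtain ⟨x, hx⟩ := exists_prime_orderOf_dvd_card' (G := K) p h
    rw [← Subgroup.orderOf_coe] at hx
    have := ((hK (x : G)).1 x.2).2
    rw [hx, Nat.coprime_self] at this
    exact hp.out.one_lt.ne' this
  have honly : ∀ {l : ℕ}, l.Prime → l ∣ K.index → l = p := by
    intro l hl hd
    by_contra hlp
    haveI := Fact.mk hl
    obtain ⟨L⟩ : Nonempty (Sylow l G) := inferInstance
    refine L.not_dvd_index (hd.trans (index_dvd_of_le fun w hw => ?_))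
    obtain ⟨i, hi⟩ := exists_orderOf_sylow L hw
    have hco : (orderOf w).Coprime p := by
      rw [hi]; exact ((Nat.coprime_primes hl hp.out).2 hlp).pow_left i
    refine (hK w).2 ⟨(QuotientGroup.eq_one_iff w).1 (orderOf_eq_one_iff.1 ?_), hco⟩
    refine Nat.eq_one_of_dvd_coprimes hco (orderOf_map_dvd (QuotientGroup.mk' C) w) ?_
    have h := orderOf_dvd_natCard (QuotientGroup.mk w : G ⧸ C)
    rwa [← index_eq_card, hc.index_eq, hc.m_prime] at h
  obtain ⟨k, hk⟩ : ∃ k, K.index = p ^ k :=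
    ⟨_, Nat.eq_prime_pow_of_unique_prime_dvd index_ne_zero_of_finite fun {l} hl hd => honly hl hd⟩
  refine ⟨K, hKn, hKco, ⟨k, hk⟩, ?_⟩
  -- `|K| = n |K ∩ Z|`
  set W := K ⊓ center G
  obtain ⟨j, hj⟩ : ∃ j, K.relIndex (center G) = p ^ j := by
    obtain ⟨j, -, hj⟩ := (Nat.dvd_prime_pow hp.out).1
      (hk ▸ relIndex_dvd_index_of_normal K (center G))
    exact ⟨j, hj⟩
  have hW : Nat.card W * p ^ j = Nat.card (center G) := by
    rw [← hj, ← Nat.card_congr (subgroupOfEquivOfLe (inf_le_right : W ≤ center G)).toEquiv,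
      inf_subgroupOf_right, Subgroup.relIndex, card_mul_index]
  have hKW : Nat.card K = n * Nat.card W := by
    have h1 : Nat.card K * p ^ k = n * Nat.card W * p ^ (2 + j) := by
      rw [← hk, card_mul_index, ← C.index_mul_card, hc.index_eq, hc.m_prime, hcard, ← hW]
      ring
    have hWco : (n * Nat.card W).Coprime p :=
      ((hp.out.coprime_iff_not_dvd).2 hc.not_dvd_n).symm.mul_left
        (hKco.of_dvd_left (card_dvd_of_le inf_le_left))
    refine Nat.dvd_antisymm ?_ ?_
    · exact (hKco.pow_right (2 + j)).dvd_of_dvd_mul_right ⟨p ^ k, h1.symm⟩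
    · exact (hWco.pow_right k).dvd_of_dvd_mul_right ⟨p ^ (2 + j), h1⟩
  -- counting fixed points
  let f : zpowers v →* MulAut K := (MulAut.conjNormal).comp (zpowers v).subtype
  letI : MulAction (zpowers v) K := MulAction.compHom K f
  have hsmul : ∀ (g : zpowers v) (x : K), ((g • x : K) : G) = (g : G) * x * (g : G)⁻¹ := fun g x =>
    MulAut.conjNormal_apply (g : G) x
  obtain ⟨i, hi⟩ := exists_orderOf_sylow P hv
  have hmod := (IsPGroup.of_card (p := p) (G := zpowers v) (n := i)
    (by rw [Nat.card_zpowers, hi])).card_modEq_card_fixedPoints K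
  have hfix : Nat.card (MulAction.fixedPoints (zpowers v) K) = Nat.card W := by
    refine Nat.card_congr
      { toFun := fun x => ⟨(x.1 : G), mem_inf.2 ⟨x.1.2, ?_⟩⟩
        invFun := fun z => ⟨⟨(z : G), z.2.1⟩, fun g => Subtype.ext (by
          rw [hsmul, Subgroup.mem_center_iff.1 z.2.2 (g : G), mul_inv_cancel_right])⟩
        left_inv := fun x => rfl
        right_inv := fun z => rfl }
    refine hc.fix _ ((hK _).1 x.1.2).1 v hvC (mul_inv_eq_iff_eq_mul.1 ?_)
    have h := congrArg Subtype.val (x.2 ⟨v, mem_zpowers v⟩)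
    rwa [hsmul] at h
  rw [hfix, hKW] at hmod
  have hn1 : 1 * Nat.card W ≤ n * Nat.card W := Nat.mul_le_mul_right _ (by
    have := hc.hyp.one_lt_n; omega)
  rw [one_mul] at hn1
  have h2 : p ∣ n * Nat.card W - Nat.card W := (Nat.modEq_iff_dvd' hn1).1 hmod.symm
  rw [show n * Nat.card W - Nat.card W = (n - 1) * Nat.card W by rw [Nat.sub_mul, one_mul]] at h2
  exact ((hKco.of_dvd_left (card_dvd_of_le inf_le_left)).symm).dvd_of_dvd_mul_right h2

/-- The commutator subgroup of a Sylow subgroup. -/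
theorem card_commutator [hp : Fact p.Prime] (P : Sylow p G) :
    Nat.card (commutator (P : Subgroup G)) = p := by
  haveI := hc.normal
  obtain ⟨v, hv, hvC, hgen, -, hcard⟩ := hc.exists_gen P
  rw [hc.exponent_one, pow_one] at hcard
  obtain ⟨y, hyP, hyC, hyc, hyp, hyz⟩ := hc.exists_central_elem P
  set z := y * v * y⁻¹ * v⁻¹
  have hz : z ∈ center G := hyz v hv
  have hzp : z ^ p = 1 := by
    rw [← comm_pow_left rfl hz, ← Subgroup.mem_center_iff.1 hyp v, mul_inv_cancel_right,
      mul_inv_cancel]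
  have hz1 : z ≠ 1 := fun h => hyc (hc.fix y hyC v hvC (by
    have : y * v * y⁻¹ * v⁻¹ = 1 := h
    rw [mul_inv_eq_one, mul_inv_eq_iff_eq_mul] at this
    exact this.symm))
  have hzo : orderOf z = p := orderOf_eq_prime hzp hz1
  -- the `p`-part of `C` modulo the centre
  let π := QuotientGroup.mk' (center G)
  set S := (P : Subgroup G) ⊓ C
  have hSp : IsPGroup p (S.map π) := (P.isPGroup'.to_le inf_le_left).map π
  obtain ⟨j, hj⟩ := IsPGroup.iff_card.1 hSp
  have hCπ : Nat.card (C.map π) = n * p := by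
    have h := TwoSizesNormal.card_map_mul (center G) C
    rw [inf_eq_left.2 hc.center_le, hcard] at h
    exact Nat.eq_of_mul_eq_mul_right Nat.card_pos h
  have hd : p ^ j ∣ p := by
    have h := hj ▸ card_dvd_of_le (map_mono (f := π) (inf_le_right : S ≤ C))
    rw [hCπ] at h
    exact (((hp.out.coprime_iff_not_dvd).2 hc.not_dvd_n).pow_left j).dvd_of_dvd_mul_left h
  have hyS : π y ∈ S.map π := mem_map_of_mem π (mem_inf.2 ⟨hyP, hyC⟩)
  have hSeq : zpowers (π y) = S.map π := by
    refine eq_of_le_of_card_ge (zpowers_le.2 hyS) ?_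
    have hy1 : π y ^ p = 1 := by rw [← map_pow]; exact (QuotientGroup.eq_one_iff _).2 hyp
    have hyo : orderOf (π y) = p :=
      orderOf_eq_prime hy1 fun h => hyc ((QuotientGroup.eq_one_iff y).1 h)
    rw [Nat.card_zpowers, hyo, hj]
    exact Nat.le_of_dvd hp.out.pos hd
  -- decomposition
  have hdec : ∀ u ∈ (P : Subgroup G), ∃ (i : ℕ) (k : ℤ) (w : G), w ∈ center G ∧ u = v ^ i * y ^ k * w := by
    intro u hu
    obtain ⟨i, hi⟩ := hgen u
    obtain ⟨k, hk⟩ := mem_zpowers_iff.1 (hSeq.ge (mem_map_of_mem π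
      (mem_inf.2 ⟨mul_mem (inv_mem (pow_mem hv i)) hu, hi⟩)))
    refine ⟨i, k, (y ^ k)⁻¹ * ((v ^ i)⁻¹ * u), ?_, by group⟩
    refine (QuotientGroup.eq (s := center G)).1 ?_
    show π (y ^ k) = π ((v ^ i)⁻¹ * u)
    rw [map_zpow]; exact hk
  haveI hN : (zpowers z).Normal := ⟨fun x hx g => by
    rwa [Subgroup.mem_center_iff.1 ((zpowers_le.2 hz) hx) g, mul_inv_cancel_right]⟩
  let ρ := QuotientGroup.mk' (zpowers z)
  have hvy : Commute (ρ y) (ρ v) := by
    have h : ρ z = 1 := (QuotientGroup.eq_one_iff z).2 (mem_zpowers z)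
    rw [map_mul, map_mul, map_mul, map_inv, map_inv, mul_inv_eq_one, mul_inv_eq_iff_eq_mul] at h
    exact h
  have hle : commutator (P : Subgroup G) ≤ (zpowers z).subgroupOf (P : Subgroup G) := by
    rw [_root_.commutator_def, Subgroup.commutator_le]
    intro g _ h _
    obtain ⟨i, k, w, hw, eg⟩ := hdec g g.2
    obtain ⟨i', k', w', hw', eh⟩ := hdec h h.2
    have hcen : ∀ {w : G}, w ∈ center G → ∀ x : G, Commute (ρ x) (ρ w) := fun hw x =>
      (show Commute x _ from Subgroup.mem_center_iff.1 hw x).map ρ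
    have hA : ∀ {x : G}, Commute (ρ x) (ρ v) → Commute (ρ x) (ρ y) → Commute (ρ x) (ρ (h : G)) := by
      intro x h1 h2
      rw [eh, map_mul, map_mul, map_pow, map_zpow]
      exact ((h1.pow_right i').mul_right (h2.zpow_right k')).mul_right (hcen hw' x)
    have hcomm : Commute (ρ (g : G)) (ρ (h : G)) := by
      rw [eg, map_mul, map_mul, map_pow, map_zpow]
      refine (((hA (Commute.refl _) hvy.symm).pow_left i).mul_left
        ((hA hvy (Commute.refl _)).zpow_left k)).mul_left ?_
      exact (hcen hw (h : G)).symm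
    refine mem_subgroupOf.2 ((QuotientGroup.eq_one_iff _).1 ?_)
    rw [commutatorElement_def]
    show ρ ((g * h * g⁻¹ * h⁻¹ : ↥(P : Subgroup G)) : G) = 1
    simp only [Subgroup.coe_mul, Subgroup.coe_inv, map_mul, map_inv]
    rw [hcomm.eq, mul_inv_cancel_right, mul_inv_cancel]
  have hzP : z ∈ (P : Subgroup G) :=
    mul_mem (mul_mem (mul_mem hyP hv) (inv_mem hyP)) (inv_mem hv)
  have heq : commutator (P : Subgroup G) = zpowers (⟨z, hzP⟩ : ↥(P : Subgroup G)) := by
    refine le_antisymm (fun x hx => ?_) (zpowers_le.2 ?_)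
    · obtain ⟨k, hk⟩ := mem_zpowers_iff.1 (mem_subgroupOf.1 (hle hx))
      exact mem_zpowers_iff.2 ⟨k, Subtype.ext (by rw [SubgroupClass.coe_zpow]; exact hk)⟩
    · rw [_root_.commutator_def]
      have := Subgroup.commutator_mem_commutator (mem_top (⟨y, hyP⟩ : ↥(P : Subgroup G)))
        (mem_top (⟨v, hv⟩ : ↥(P : Subgroup G)))
      rw [commutatorElement_def] at this
      exact this
  rw [heq, Nat.card_zpowers, Subgroup.orderOf_mk, hzo]

end Single

end CfsgLib.ClassSizes.CoprimeRank
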